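/-
The centralizer of a product of four transpositions in the presented Fischer group and its action on the
fixed points of that product.
-/
import Cfsg.Agent.Lib.Spor.Fi24Seven.Word
import Cfsg.Agent.Lib.Spor.Fi24Four.Data.Points
import Cfsg.Agent.Lib.Spor.Fi24Four.Data.Rows

set_option autoImplicit false

namespace CfsgLib.Spor.Fi24Four

open CfsgLib.Spor.TC CfsgLib.Spor.Fi24 CfsgLib.Spor.Fi24Class CfsgLib.Spor.Fi24Seven

set_option maxRecDepth 100000

/-- An entry of sixteen bits. -/
def gg (r j : ℕ) : ℕ := Nat.land (Nat.shiftRight r (16 * j)) 65535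

/-- An entry of thirty-two bits. -/
def gw (r j : ℕ) : ℕ := Nat.land (Nat.shiftRight r (32 * j)) 4294967295

/-- An entry of one bit. -/
def gb (r j : ℕ) : Bool := Nat.beq (Nat.land (Nat.shiftRight r j) 1) 1

/-- All indices below a bound. -/
def allB (n : ℕ) (f : ℕ → Bool) : Bool := (List.range n).all f

theorem allB_spec {n : ℕ} {f : ℕ → Bool} (h : allB n f = true) : ∀ i < n, f i = true := fun i hi =>
  List.all_eq_true.1 h i (List.mem_range.2 hi)

/-- A number in a list. -/
def memb (l : List ℕ) (c : ℕ) : Bool := l.any fun a => Nat.beq a c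

theorem mem_of_memb {l : List ℕ} {c : ℕ} (h : memb l c = true) : c ∈ l := by
  obtain ⟨a, ha, e⟩ := List.any_eq_true.1 h
  exact Nat.eq_of_beq_eq_true e ▸ ha

/-- A number as a point. -/
def pnt (n : ℕ) : Fin nPts := if h : n < nPts then ⟨n, h⟩ else pt0

theorem pnt_val {n : ℕ} (h : n < nPts) : (pnt n : ℕ) = n := by rw [pnt, dif_pos h]

/-- The number of a fixed point. -/
def pN (j : ℕ) : ℕ := gw Data.ptP j

/-- A fixed point. -/
def P (j : ℕ) : Fin nPts := pnt (pN j)

/-- The word of the product of four transpositions. -/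
def zW : List ℕ := [0, 2, 4, 6]

/-- The product of four transpositions. -/
noncomputable def z0 : X₀ := el zW

/-- Its centralizer. -/
noncomputable abbrev Cz : Subgroup X₀ := Subgroup.centralizer ({z0} : Set X₀)

noncomputable def pointsOK : Bool :=
  allB 504 (fun j => Nat.blt (pN j) nPts && Nat.beq (walk zW (pN j)) (pN j) && Nat.beq (Data.ptL.getD j 0) (pN j)) &&
    allB 503 (fun j => Nat.blt (pN j) (pN (j + 1))) && Nat.beq Data.ptL.length 504

theorem points_ok : pointsOK = true := by decide +kernel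

theorem pN_spec {j : ℕ} (hj : j < 504) : pN j < nPts ∧ walk zW (pN j) = pN j ∧ Data.ptL.getD j 0 = pN j := by
  have h := points_ok
  simp only [pointsOK, Bool.and_eq_true] at h
  have h1 := allB_spec h.1.1 j hj
  simp only [Bool.and_eq_true, Nat.blt_eq] at h1
  exact ⟨h1.1.1, Nat.eq_of_beq_eq_true h1.1.2, Nat.eq_of_beq_eq_true h1.2⟩

theorem P_val {j : ℕ} (hj : j < 504) : (P j : ℕ) = pN j := pnt_val (pN_spec hj).1

theorem pN_lt {i j : ℕ} (hij : i < j) (hj : j < 504) : pN i < pN j := by
  have h := points_ok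
  simp only [pointsOK, Bool.and_eq_true] at h
  induction j with
  | zero => omega
  | succ j ih =>
    have h1 := allB_spec h.1.2 j (by omega)
    rw [Nat.blt_eq] at h1
    rcases Nat.lt_succ_iff_lt_or_eq.1 hij with h2 | h2
    · exact (ih h2 (by omega)).trans h1
    · exact h2 ▸ h1

theorem P_inj {i j : ℕ} (hi : i < 504) (hj : j < 504) (h : P i = P j) : i = j := by
  have e : pN i = pN j := by rw [← P_val hi, ← P_val hj, h]
  rcases lt_trichotomy i j with h1 | h1 | h1
  · exact absurd e (pN_lt h1 hj).ne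
  · exact h1
  · exact absurd e (pN_lt h1 hi).ne'

theorem rho_el_val {w : List ℕ} (h : ∀ a ∈ w, a < 12) (p : Fin nPts) : (rho (el w) p : ℕ) = walk w p := by
  rw [rho_el, ev_val all_points h]

theorem zW_lt : ∀ a ∈ zW, a < 12 := by decide

theorem rho_z0_val (p : Fin nPts) : (rho z0 p : ℕ) = walk zW p := rho_el_val zW_lt p

theorem rho_z0_P {j : ℕ} (hj : j < 504) : rho z0 (P j) = P j :=
  Fin.ext (by rw [rho_z0_val, P_val hj, (pN_spec hj).2.1])

theorem mem_Cz {g : X₀} : g ∈ Cz ↔ g * z0 = z0 * g := Subgroup.mem_centralizer_singleton_iff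

theorem rho_comm {g h : X₀} (e : Commute g h) (p : Fin nPts) : rho g (rho h p) = rho h (rho g p) := by
  rw [← rho_mul, ← rho_mul, e.eq]

theorem fix_iff_commute {g : X₀} {p : Fin nPts} : rho g p = p ↔ Commute g (trp p) := by
  constructor
  · intro e
    have e1 := trp_smul g p
    rw [e] at e1
    show g * trp p = trp p * g
    conv_rhs => rw [e1]
    group
  · exact fun e => trp_injective (by rw [trp_smul, e.eq, mul_inv_cancel_right])

/-- The transposition of a fixed point. -/
noncomputable def tt (i : ℕ) : X₀ := trp (P i)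

theorem trp_sq (p : Fin nPts) : trp p * trp p = 1 := by
  rw [trp, show rep p * zee * (rep p)⁻¹ * (rep p * zee * (rep p)⁻¹) = rep p * (zee * zee) * (rep p)⁻¹ by group,
    sq_gen, mul_one, mul_inv_cancel]

theorem tt_sq (i : ℕ) : tt i * tt i = 1 := trp_sq _

theorem tt_inv (i : ℕ) : (tt i)⁻¹ = tt i := inv_eq_of_mul_eq_one_right (tt_sq i)

theorem tt_mem {i : ℕ} (hi : i < 504) : tt i ∈ Cz := by
  rw [mem_Cz]
  exact (fix_iff_commute.1 (rho_z0_P hi)).symm.eq

/-- An element maps the fixed points as a row says. -/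
def At (g : X₀) (r : ℕ) : Prop := ∀ j < 504, gg r j < 504 ∧ rho g (P j) = P (gg r j)

theorem At.mul {g h : X₀} {a b r : ℕ} (hg : At g a) (hh : At h b) (e : ∀ j < 504, gg r j = gg a (gg b j)) :
    At (g * h) r := fun j hj => by
  rw [e j hj, rho_mul, (hh j hj).2]
  exact hg _ (hh j hj).1

theorem At.inv {g : X₀} {r s : ℕ} (hg : At g r) (e : ∀ j < 504, gg s j < 504 ∧ gg r (gg s j) = j) : At g⁻¹ s :=
  fun j hj => by
    obtain ⟨h1, h2⟩ := e j hj
    refine ⟨h1, ?_⟩
    have h3 := (hg _ h1).2
    rw [h2] at h3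
    rw [← h3, rho_inv_apply]

/-- Rows acting one after the other, the last first. -/
def comps (rs : List ℕ) (j : ℕ) : ℕ := rs.foldr gg j

theorem at_prod : ∀ {gs : List X₀} {rs : List ℕ}, List.Forall₂ At gs rs → ∀ j < 504,
    comps rs j < 504 ∧ rho gs.prod (P j) = P (comps rs j)
  | _, _, .nil, j, hj => ⟨hj, by rw [List.prod_nil, map_one]; rfl⟩
  | _, _, .cons h hl, j, hj => by
    obtain ⟨h1, h2⟩ := at_prod hl j hj
    rw [List.prod_cons, rho_mul, h2]
    exact h _ h1

/-- The place of an index in the tree. -/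
def pos (i : ℕ) : ℕ := gg Data.posP i

/-- The index at a place. -/
def ord (n : ℕ) : ℕ := gg Data.ordP n

/-- A generating index. -/
def Le (k : ℕ) : ℕ := Data.letL.getD k 0

/-- Its row. -/
def LR (k : ℕ) : ℕ := Data.letR.getD k 0

/-- The word of its transposition. -/
def LW (k : ℕ) : List (List ℕ) := [Data.letW.getD k []] ++ [0] :: rev [Data.letW.getD k []]

noncomputable def treeOK : Bool :=
  allB 7 (fun n => Nat.beq (ord n) (Le n)) &&
    allB 504 (fun n => Nat.blt n 7 || (Nat.blt (gg Data.parK n) 7 && Nat.blt (gg Data.parJ n) n &&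
      Nat.beq (gg (LR (gg Data.parK n)) (ord (gg Data.parJ n))) (ord n))) &&
    allB 504 (fun i => Nat.blt (pos i) 504 && Nat.beq (ord (pos i)) i) &&
    allB 504 (fun n => Nat.blt (ord n) 504)

theorem tree_ok : treeOK = true := by decide +kernel

noncomputable def letRowOK (k : ℕ) : Bool :=
  below [Data.letW.getD k []] && below (LW k) && Nat.blt (Le k) 504 && Nat.beq (run [Data.letW.getD k []] 0) (pN (Le k)) &&
    allB 504 (fun j => Nat.blt (gg (LR k) j) 504 && Nat.beq (run (LW k) (pN j)) (pN (gg (LR k) j)))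

theorem let_rows_ok : allB 7 letRowOK = true := by decide +kernel

theorem Le_lt {k : ℕ} (hk : k < 7) : Le k < 504 := by
  have h := allB_spec let_rows_ok k hk
  simp only [letRowOK, Bool.and_eq_true, Nat.blt_eq] at h
  exact h.1.1.2

theorem let_at {k : ℕ} (hk : k < 7) : At (tt (Le k)) (LR k) := by
  have h := allB_spec let_rows_ok k hk
  simp only [letRowOK, Bool.and_eq_true, Nat.blt_eq] at h
  obtain ⟨⟨⟨⟨hb, hb'⟩, hl⟩, hr⟩, hall⟩ := h
  have e : tt (Le k) = pel (LW k) :=
    trp_pel hb (by rw [P_val hl]; exact Nat.eq_of_beq_eq_true hr)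
  intro j hj
  have h1 := allB_spec hall j hj
  simp only [Bool.and_eq_true, Nat.blt_eq] at h1
  exact ⟨h1.1, Fin.ext (by rw [e, rho_pel hb', P_val hj, P_val h1.1]; exact Nat.eq_of_beq_eq_true h1.2)⟩

/-- All fixed points are reached from the seven. -/
theorem reach {p : ℕ → Prop} (h0 : ∀ k < 7, p (Le k)) (hs : ∀ k < 7, ∀ j < 504, p j → p (gg (LR k) j)) :
    ∀ i < 504, p i := by
  have h := tree_ok
  simp only [treeOK, Bool.and_eq_true] at h
  obtain ⟨⟨⟨hb, ht⟩, hp⟩, ho⟩ := h
  have key : ∀ n, n < 504 → p (ord n) := by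
    intro n
    induction n using Nat.strong_induction_on with
    | _ n ih =>
      intro hn
      have h1 := allB_spec ht n hn
      simp only [Bool.or_eq_true, Bool.and_eq_true, Nat.blt_eq] at h1
      rcases h1 with h1 | ⟨⟨hk, hj⟩, e⟩
      · rw [Nat.eq_of_beq_eq_true (allB_spec hb n h1)]
        exact h0 n h1
      · rw [← Nat.eq_of_beq_eq_true e]
        have hj' : ord (gg Data.parJ n) < 504 := by
          have := allB_spec ho _ (hj.trans hn)
          rwa [Nat.blt_eq] at this
        exact hs _ hk _ hj' (ih _ hj (hj.trans hn))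
  intro i hi
  have h1 := allB_spec hp i hi
  simp only [Bool.and_eq_true, Nat.blt_eq] at h1
  rw [← Nat.eq_of_beq_eq_true h1.2]
  exact key _ h1.1

theorem tt_conj {g : X₀} {i j : ℕ} (h : rho g (P i) = P j) : tt j = g * tt i * g⁻¹ := by
  rw [tt, ← h, trp_smul]; rfl

theorem tt_step {k : ℕ} (hk : k < 7) {j : ℕ} (hj : j < 504) :
    tt (gg (LR k) j) = tt (Le k) * tt j * tt (Le k) := by
  rw [tt_conj (let_at hk j hj).2, tt_inv]

/-- The rows of some transpositions. -/
def allRows : List (ℕ × ℕ) :=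
  ((List.range 7).map fun k => (Le k, LR k)) ++ Data.trR.map fun e => (e.1, e.2.2.2)

/-- The row of an index, if present among the first ones. -/
def rowIn (l : List (ℕ × ℕ)) (a : ℕ) : Option (ℕ × ℕ) := l.find? fun e => Nat.beq e.1 a

noncomputable def trOK (n : ℕ) : Bool :=
  let e := Data.trR.getD n (0, 0, 0, 0)
  let a := allRows.getD (7 + n) (0, 0)
  let o := rowIn (allRows.take (7 + n)) e.2.2.1
  Nat.blt e.2.1 7 && Nat.blt e.2.2.1 504 && Nat.beq a.1 e.1 && Nat.beq (gg (LR e.2.1) e.2.2.1) e.1 && o.isSome &&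
    allB 504 (fun x => Nat.beq (gg a.2 x) (gg (LR e.2.1) (gg (o.getD (0, 0)).2 (gg (LR e.2.1) x))))

theorem tr_ok : allB Data.trR.length trOK = true := by decide +kernel

theorem rows_at : ∀ e ∈ allRows, e.1 < 504 ∧ At (tt e.1) e.2 := by
  have hlen : allRows.length = 7 + Data.trR.length := by
    rw [allRows, List.length_append, List.length_map, List.length_map, List.length_range]
  have key : ∀ n, n < allRows.length →
      (allRows.getD n (0, 0)).1 < 504 ∧ At (tt (allRows.getD n (0, 0)).1) (allRows.getD n (0, 0)).2 := by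
    intro n
    induction n using Nat.strong_induction_on with
    | _ n ih =>
      intro hn
      by_cases h7 : n < 7
      · have e : allRows.getD n (0, 0) = (Le n, LR n) := by
          rw [allRows, List.getD_append _ _ _ _ (by simpa using h7), List.getD_eq_getElem _ _ (by simpa using h7)]
          simp
        rw [e]
        exact ⟨Le_lt h7, let_at h7⟩
      · obtain ⟨m, rfl⟩ := Nat.exists_eq_add_of_le (not_lt.1 h7)
        have h := allB_spec tr_ok m (by omega)
        simp only [trOK, Bool.and_eq_true, Nat.blt_eq] at h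
        generalize Data.trR.getD m (0, 0, 0, 0) = e at h
        obtain ⟨⟨⟨⟨⟨hk, hj⟩, ha⟩, hi⟩, ho⟩, hrow⟩ := h
        obtain ⟨w, hw⟩ := Option.isSome_iff_exists.1 ho
        rw [hw, Option.getD_some] at hrow
        obtain ⟨hmem, hwj⟩ : w ∈ allRows.take (7 + m) ∧ w.1 = e.2.2.1 :=
          ⟨List.mem_of_find?_eq_some hw,
            Nat.eq_of_beq_eq_true (List.find?_some (p := fun x : ℕ × ℕ => Nat.beq x.1 e.2.2.1) hw)⟩
        obtain ⟨q, hq, hqe⟩ := List.getElem_of_mem hmem
        rw [List.length_take] at hq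
        rw [List.getElem_take] at hqe
        have hw' := ih q (by omega) (by omega)
        rw [List.getD_eq_getElem _ _ (by omega : q < allRows.length), hqe, hwj] at hw'
        rw [Nat.eq_of_beq_eq_true ha, ← Nat.eq_of_beq_eq_true hi]
        have hs := (let_at hk _ hj).1
        refine ⟨hs, ?_⟩
        rw [tt_step hk hj, mul_assoc]
        intro x hx
        have h1 := let_at hk x hx
        have h2 := hw'.2 _ h1.1
        have h3 := let_at hk _ h2.1
        rw [Nat.eq_of_beq_eq_true (allB_spec hrow x hx), rho_mul, rho_mul, h1.2, h2.2]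
        exact h3
  intro e he
  obtain ⟨n, hn, rfl⟩ := List.getElem_of_mem he
  rw [← List.getD_eq_getElem allRows (0, 0) hn]
  exact key n hn

/-- The outer element. -/
noncomputable def hh : X₀ := el [1, 0, 2, 1]

noncomputable def outOK : Bool :=
  allB 504 (fun j => Nat.blt (gg Data.outR j) 504 && Nat.beq (walk [1, 0, 2, 1] (pN j)) (pN (gg Data.outR j))) &&
    same [[1, 0, 2, 1], [1, 0, 2, 1]] [] && same [[1, 0, 2, 1], zW] [zW, [1, 0, 2, 1]] &&
    same [zW, zW] [] && gpts.any (fun c => !(Nat.beq (walk zW c) c))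

theorem out_ok : outOK = true := by decide +kernel

theorem hh_at : At hh Data.outR := by
  have h := out_ok
  simp only [outOK, Bool.and_eq_true] at h
  intro j hj
  have h1 := allB_spec h.1.1.1.1 j hj
  simp only [Bool.and_eq_true, Nat.blt_eq] at h1
  exact ⟨h1.1, Fin.ext (by
    rw [hh, rho_el_val (by decide), P_val hj, P_val h1.1]; exact Nat.eq_of_beq_eq_true h1.2)⟩

theorem pel_two (v w : List ℕ) : pel [v, w] = el v * el w := by
  rw [show [v, w] = [v] ++ [w] from rfl, pel_append, pel_one, pel_one]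

theorem hh_sq : hh * hh = 1 := by
  have h := out_ok
  simp only [outOK, Bool.and_eq_true] at h
  rw [hh, ← pel_two, pel_eq h.1.1.1.2, pel_nil]

theorem hh_mem : hh ∈ Cz := by
  have h := out_ok
  simp only [outOK, Bool.and_eq_true] at h
  rw [mem_Cz, hh, z0, ← pel_two, ← pel_two, pel_eq h.1.1.2]

theorem z0_sq : z0 * z0 = 1 := by
  have h := out_ok
  simp only [outOK, Bool.and_eq_true] at h
  rw [z0, ← pel_two, pel_eq h.1.2, pel_nil]

theorem z0_ne : z0 ≠ 1 := by
  intro e
  have h := out_ok
  simp only [outOK, Bool.and_eq_true, List.any_eq_true, Bool.not_eq_true'] at h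
  obtain ⟨c, hc, hne⟩ := h.2
  have hlt : c < nPts := (show ∀ c ∈ gpts, c < nPts by decide) c hc
  refine Nat.ne_of_beq_eq_false hne ?_
  have := rho_z0_val ⟨c, hlt⟩
  rw [e, map_one] at this
  exact this.symm

theorem z0_inv : z0⁻¹ = z0 := inv_eq_of_mul_eq_one_right z0_sq

theorem z0_mem : z0 ∈ Cz := mem_Cz.2 rfl

end CfsgLib.Spor.Fi24Four
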