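/-
The test of one point for the scans.
-/
import Cfsg.Agent.Lib.Spor.Fi24Four.Base

set_option autoImplicit false

namespace CfsgLib.Spor.Fi24Four

open CfsgLib.Spor.TC CfsgLib.Spor.Fi24

/-- The eight letters whose points are fixed by the product. -/
def fixLet : List ℕ := [0, 2, 4, 6, 8, 9, 10, 11]

/-- Which of the eight letters fix a point, as a number. -/
noncomputable def code (c : ℕ) : ℕ := fixLet.foldl (fun a x => a * 2 + (Nat.beq (T x c) c).toNat) 0

/-- Four further fixed points: the index and a word to it. -/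
def extraL : List (ℕ × List ℕ) :=
  [(38, [5, 10, 2, 3, 4, 5, 6, 1, 2, 3, 4, 5, 10, 11, 7, 6, 1, 2, 3, 4, 5, 10, 8, 7, 6, 5, 4, 3, 2, 1]),
   (372, [5, 10, 2, 3, 4, 5, 6, 1, 2, 3, 4, 5, 10, 11, 7, 4, 5, 6, 3, 4, 5, 10, 8, 7, 6, 5, 4, 3, 2, 1]),
   (80, [4, 5, 10, 3, 4, 5, 6, 1, 2, 3, 4, 5, 10, 11, 7, 6, 1, 2, 3, 4, 5, 10, 8, 7, 6, 5, 4, 3, 2, 1]),
   (125, [5, 10, 6, 7, 5, 6, 3, 4, 5, 10, 8, 7, 6, 5, 4, 3, 1, 2, 0, 1])]

/-- The word of the transposition of a further point. -/
def extraT (n : ℕ) : List ℕ := (extraL.getD n (0, [])).2 ++ 0 :: (extraL.getD n (0, [])).2.reverse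

/-- A point fixed by the product is listed; one related to the eight as one of four others is that or its image. -/
noncomputable def scanTest (c : ℕ) : Bool :=
  (!(Nat.beq (walk zW c) c) || memb Data.ptL c) &&
    strict (code c) fun k =>
      (!(Nat.beq k 63) || (!(Nat.beq (walk (extraT 0) c) c) || memb [2, 3] c)) &&
        (!(Nat.beq k 159) || (!(Nat.beq (walk (extraT 1) c) c) || memb [2886, 1927] c)) &&
        (!(Nat.beq k 205) || (!(Nat.beq (walk (extraT 2) c) c) || memb [3902, 3848] c)) &&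
        (!(Nat.beq k 231) || (!(Nat.beq (walk (extraT 3) c) c) || memb [3915, 3910] c))

end CfsgLib.Spor.Fi24Four
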