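/-
An element centralizing the product that fixes its fixed points is trivial or the product.
-/
import Cfsg.Agent.Lib.Spor.Fi24Four.Scan.All

set_option autoImplicit false

namespace CfsgLib.Spor.Fi24Four

open CfsgLib.Spor.TC CfsgLib.Spor.Fi24 CfsgLib.Spor.Fi24Class CfsgLib.Spor.Fi24Seven

set_option maxRecDepth 100000

/-- The fixed points of the product are the listed ones. -/
theorem mem_P {p : Fin nPts} (h : rho z0 p = p) : ∃ j < 504, p = P j := by
  have hs := all_scan p (Nat.zero_le _) p.2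
  simp only [scanTest, strict_eq, Bool.and_eq_true, Bool.or_eq_true, Bool.not_eq_true'] at hs
  have e : walk zW (p : ℕ) = p := by rw [← rho_z0_val, h]
  rcases hs.1 with h1 | h1
  · exact absurd e (Nat.ne_of_beq_eq_false h1)
  obtain ⟨j, hj, hj'⟩ := List.getElem_of_mem (mem_of_memb h1)
  have hp := points_ok
  simp only [pointsOK, Bool.and_eq_true] at hp
  have hl : j < 504 := by rwa [Nat.eq_of_beq_eq_true hp.2] at hj
  refine ⟨j, hl, Fin.ext ?_⟩
  rw [P_val hl, ← (pN_spec hl).2.2, List.getD_eq_getElem _ _ hj, hj']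

theorem code_congr {c d : ℕ} (h : ∀ a ∈ fixLet, Nat.beq (T a c) c = Nat.beq (T a d) d) : code c = code d := by
  simp only [code, fixLet, List.foldl_cons, List.foldl_nil]
  simp only [fixLet, List.forall_mem_cons] at h
  obtain ⟨h1, h2, h3, h4, h5, h6, h7, h8, -⟩ := h
  rw [h1, h2, h3, h4, h5, h6, h7, h8]

noncomputable def extraOK (n : ℕ) : Bool :=
  below [(extraL.getD n (0, [])).2] && (extraT n).all (Nat.blt · 12) && Nat.blt (extraL.getD n (0, [])).1 504 &&
    Nat.beq (run [(extraL.getD n (0, [])).2] 0) (pN (extraL.getD n (0, [])).1)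

theorem extra_ok : allB 4 extraOK = true := by decide +kernel

theorem extra_val {n : ℕ} (hn : n < 4) :
    (extraL.getD n (0, [])).1 < 504 ∧
      ∀ p : Fin nPts, (rho (tt (extraL.getD n (0, [])).1) p : ℕ) = walk (extraT n) p := by
  have h := allB_spec extra_ok n hn
  simp only [extraOK, Bool.and_eq_true, Nat.blt_eq, List.all_eq_true] at h
  obtain ⟨⟨⟨hb, hlt⟩, hi⟩, hr⟩ := h
  refine ⟨hi, fun p => ?_⟩
  have e : tt (extraL.getD n (0, [])).1 = el (extraT n) := by
    rw [tt, trp_pel hb (by rw [P_val hi]; exact Nat.eq_of_beq_eq_true hr), extraT, pel]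
    simp [rev]
  rw [e, rho_el_val hlt]

noncomputable def genPtsOK : Bool :=
  fixLet.all (fun a => Nat.blt a 12 && Nat.beq (walk zW (gpts.getD a 0)) (gpts.getD a 0)) &&
    Nat.beq (code 2) 63 && Nat.beq (code 2886) 159 && Nat.beq (code 3902) 205 && Nat.beq (code 3915) 231 &&
    Nat.beq (walk (extraT 0) 2) 2 && Nat.beq (walk (extraT 1) 2886) 2886 &&
    Nat.beq (walk (extraT 2) 3902) 3902 && Nat.beq (walk (extraT 3) 3915) 3915

theorem gen_pts_ok : genPtsOK = true := by decide +kernel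

theorem link_facts : (gpts.getD 1 0 = 2 ∧ gpts.getD 3 0 = 2886 ∧ gpts.getD 5 0 = 3902 ∧ gpts.getD 7 0 = 3915) ∧
    (T 1 2886 = 2886 ∧ T 1 1927 ≠ 1927 ∧ T 3 2 = 2 ∧ T 3 3 ≠ 3) ∧
    (T 3 3902 = 3902 ∧ T 3 3848 ≠ 3848 ∧ T 5 2886 = 2886 ∧ T 5 1927 ≠ 1927) ∧
    (T 5 3915 = 3915 ∧ T 5 3910 ≠ 3910 ∧ T 7 3902 = 3902 ∧ T 7 3848 ≠ 3848) ∧
    (walk zW 2 = 3 ∧ walk zW 2886 = 1927 ∧ walk zW 3902 = 3848 ∧ walk zW 3915 = 3910) := by decide +kernel

/-- An element centralizing the product that fixes its fixed points is trivial or the product. -/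
theorem eq_of_fix {g : X₀} (hg : g ∈ Cz) (h : ∀ j < 504, rho g (P j) = P j) : g = 1 ∨ g = z0 := by
  have hok := gen_pts_ok
  simp only [genPtsOK, Bool.and_eq_true, List.all_eq_true, Nat.blt_eq] at hok
  obtain ⟨⟨⟨⟨⟨⟨⟨⟨hfx, k1⟩, k3⟩, k5⟩, k7⟩, e1⟩, e3⟩, e5⟩, e7⟩ := hok
  have hfix : ∀ x : Fin 12, (x : ℕ) ∈ fixLet → rho g (gpt x) = gpt x := by
    intro x hx
    obtain ⟨j, hj, e⟩ := mem_P (p := gpt x) (Fin.ext ((rho_z0_val _).trans (Nat.eq_of_beq_eq_true (hfx x hx).2)))
    rw [e]; exact h j hj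
  have hiff : ∀ {t : X₀} (d : Fin nPts), Commute g t → (rho t (rho g d) = rho g d ↔ rho t d = d) :=
    fun {t} d e => by rw [← rho_comm e]; exact (rho g).injective.eq_iff
  have hcode : ∀ d : Fin nPts, code ((rho g d : Fin nPts) : ℕ) = code (d : ℕ) := by
    intro d
    refine code_congr fun a ha => Bool.eq_iff_iff.2 ?_
    have ha' : a < 12 := (hfx a ha).1
    have hc : Commute g (gen a) := by
      have := fix_iff_commute.1 (hfix ⟨a, ha'⟩ ha)
      rwa [trp_gpt] at this
    rw [Nat.beq_eq, Nat.beq_eq, ← rho_gen_val ha', ← rho_gen_val ha', ← Fin.ext_iff, ← Fin.ext_iff]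
    exact hiff d hc
  have hext : ∀ n, n < 4 → ∀ d : Fin nPts, walk (extraT n) (d : ℕ) = d →
      walk (extraT n) ((rho g d : Fin nPts) : ℕ) = (rho g d : Fin nPts) := by
    intro n hn d hd
    obtain ⟨hi, hv⟩ := extra_val hn
    have hc : Commute g (tt (extraL.getD n (0, [])).1) := fix_iff_commute.1 (h _ hi)
    have h1 : rho (tt (extraL.getD n (0, [])).1) d = d := Fin.ext ((hv d).trans hd)
    rw [← hv, (hiff d hc).2 h1]
  obtain ⟨⟨g1, g3, g5, g7⟩, L13, L35, L57, z1, z3, z5, z7⟩ := link_facts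
  have hs := fun p : Fin nPts => all_scan p (Nat.zero_le _) p.2
  have hpair : ∀ (n : ℕ) (x : Fin 12) (k a b : ℕ), n < 4 → ((gpt x : Fin nPts) : ℕ) = a → code a = k →
      walk (extraT n) a = a →
      (∀ c, code c = k → walk (extraT n) c = c → scanTest c = true → memb [a, b] c = true) →
      (rho g (gpt x) : ℕ) = a ∨ (rho g (gpt x) : ℕ) = b := by
    intro n x k a b hn hx hk he hsc
    have h1 := mem_of_memb (hsc _ (by rw [hcode, hx, hk]) (hext n hn _ (by rw [hx, he])) (hs _))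
    simpa using h1
  have sc : ∀ c, scanTest c = true →
      (code c = 63 → walk (extraT 0) c = c → memb [2, 3] c = true) ∧
      (code c = 159 → walk (extraT 1) c = c → memb [2886, 1927] c = true) ∧
      (code c = 205 → walk (extraT 2) c = c → memb [3902, 3848] c = true) ∧
      (code c = 231 → walk (extraT 3) c = c → memb [3915, 3910] c = true) := by
    intro c hc
    simp only [scanTest, strict_eq, Bool.and_eq_true, Bool.or_eq_true, Bool.not_eq_true'] at hc
    obtain ⟨-, ⟨⟨a, b⟩, c'⟩, d⟩ := hc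
    refine ⟨fun u v => ?_, fun u v => ?_, fun u v => ?_, fun u v => ?_⟩
    · exact (a.resolve_left fun r => Nat.ne_of_beq_eq_false r u).resolve_left fun r => Nat.ne_of_beq_eq_false r v
    · exact (b.resolve_left fun r => Nat.ne_of_beq_eq_false r u).resolve_left fun r => Nat.ne_of_beq_eq_false r v
    · exact (c'.resolve_left fun r => Nat.ne_of_beq_eq_false r u).resolve_left fun r => Nat.ne_of_beq_eq_false r v
    · exact (d.resolve_left fun r => Nat.ne_of_beq_eq_false r u).resolve_left fun r => Nat.ne_of_beq_eq_false r v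
  have p1 := hpair 0 1 63 2 3 (by decide) g1 (Nat.eq_of_beq_eq_true k1) (Nat.eq_of_beq_eq_true e1)
    fun c u v w => (sc c w).1 u v
  have p3 := hpair 1 3 159 2886 1927 (by decide) g3 (Nat.eq_of_beq_eq_true k3) (Nat.eq_of_beq_eq_true e3)
    fun c u v w => (sc c w).2.1 u v
  have p5 := hpair 2 5 205 3902 3848 (by decide) g5 (Nat.eq_of_beq_eq_true k5) (Nat.eq_of_beq_eq_true e5)
    fun c u v w => (sc c w).2.2.1 u v
  have p7 := hpair 3 7 231 3915 3910 (by decide) g7 (Nat.eq_of_beq_eq_true k7) (Nat.eq_of_beq_eq_true e7)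
    fun c u v w => (sc c w).2.2.2 u v
  -- two letters with commuting points are moved together
  have link : ∀ (x y : Fin 12) (a a' b' : ℕ), ((gpt x : Fin nPts) : ℕ) = a → ((gpt y : Fin nPts) : ℕ) = a' →
      T x a' = a' → T x b' ≠ b' → (rho g (gpt y) : ℕ) = b' → (rho g (gpt x) : ℕ) = a → False := by
    intro x y a a' b' hx hy h1 h2 h3 h4
    have hf : rho g (gpt x) = gpt x := Fin.ext (h4.trans hx.symm)
    have hc : Commute g (gen x) := by rw [← trp_gpt]; exact fix_iff_commute.1 hf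
    refine h2 ?_
    have h5 : rho (gen x) (gpt y) = gpt y := Fin.ext (by rw [rho_gen_val x.2, hy, h1])
    rw [← h3, ← rho_gen_val x.2, (hiff _ hc).2 h5]
  obtain ⟨A1, A1', B1, B1'⟩ := L13
  obtain ⟨A3, A3', B3, B3'⟩ := L35
  obtain ⟨A5, A5', B5, B5'⟩ := L57
  have hall : ∀ x : Fin 12, (x : ℕ) ∈ fixLet ∨ x = 1 ∨ x = 3 ∨ x = 5 ∨ x = 7 := by decide
  rcases p1 with q1 | q1
  · have q3 := p3.resolve_right fun r => link 1 3 2 2886 1927 g1 g3 A1 A1' r q1
    have q5 := p5.resolve_right fun r => link 3 5 2886 3902 3848 g3 g5 A3 A3' r q3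
    have q7 := p7.resolve_right fun r => link 5 7 3902 3915 3910 g5 g7 A5 A5' r q5
    refine Or.inl (eq_one_of_fix fun x => ?_)
    rcases hall x with hx | rfl | rfl | rfl | rfl
    · exact hfix x hx
    all_goals refine Fin.ext ?_
    · exact q1.trans g1.symm
    · exact q3.trans g3.symm
    · exact q5.trans g5.symm
    · exact q7.trans g7.symm
  · have q3 := p3.resolve_left fun r => link 3 1 2886 2 3 g3 g1 B1 B1' q1 r
    have q5 := p5.resolve_left fun r => link 5 3 3902 2886 1927 g5 g3 B3 B3' q3 r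
    have q7 := p7.resolve_left fun r => link 7 5 3915 3902 3848 g7 g5 B5 B5' q5 r
    refine Or.inr ?_
    have e : z0⁻¹ * g = 1 := eq_one_of_fix fun x => by
      rw [rho_mul]
      rcases hall x with hx | rfl | rfl | rfl | rfl
      · rw [hfix x hx]
        conv_lhs => rw [show gpt x = rho z0 (gpt x) from
          (Fin.ext ((rho_z0_val _).trans (Nat.eq_of_beq_eq_true (hfx x hx).2))).symm]
        rw [rho_inv_apply]
      all_goals rw [show ∀ p q : Fin nPts, rho z0⁻¹ p = q ↔ p = rho z0 q from fun p q =>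
        ⟨fun r => by rw [← r, z0_inv, ← rho_mul, z0_sq, map_one]; rfl, fun r => by rw [r, rho_inv_apply]⟩]
      all_goals refine Fin.ext ?_
      · rw [rho_z0_val, q1, show ((gpt 1 : Fin nPts) : ℕ) = 2 from g1, z1]
      · rw [rho_z0_val, q3, show ((gpt 3 : Fin nPts) : ℕ) = 2886 from g3, z3]
      · rw [rho_z0_val, q5, show ((gpt 5 : Fin nPts) : ℕ) = 3902 from g5, z5]
      · rw [rho_z0_val, q7, show ((gpt 7 : Fin nPts) : ℕ) = 3915 from g7, z7]
    exact (inv_mul_eq_one.1 e).symm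

end CfsgLib.Spor.Fi24Four
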