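/-
The action of the centralizer on the tetrads.
-/
import Cfsg.Agent.Lib.Spor.Fi24Four.Fixed
import Cfsg.Agent.Lib.Spor.Fi24Four.Data.Tetrad

set_option autoImplicit false

namespace CfsgLib.Spor.Fi24Four

open CfsgLib.Spor.TC CfsgLib.Spor.Fi24 CfsgLib.Spor.Fi24Class CfsgLib.Spor.Fi24Seven

set_option maxRecDepth 100000

/-- The tetrad of an index. -/
def tid (i : ℕ) : ℕ := gg Data.tidP i

/-- A member of a tetrad. -/
def repT (t : ℕ) : ℕ := gg Data.repP t

/-- Commutation of tetrads. -/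
def com (s t : ℕ) : Bool := gb (Data.comB.getD s 0) t

/-- The reflection of a tetrad. -/
def Rf (s t : ℕ) : ℕ := gg (Data.reflR.getD s 0) t

noncomputable def tetBaseOK : Bool :=
  allB 504 (fun i => Nat.blt (tid i) 126) && allB 126 (fun t => Nat.blt (repT t) 504 && Nat.beq (tid (repT t)) t) &&
    allB 7 (fun k => allB 504 fun j =>
      Nat.beq (tid (gg (LR k) j)) (Rf (tid (Le k)) (tid j)) &&
        (Nat.beq (gg (LR k) j) j == com (tid (Le k)) (tid j))) &&
    allB 126 (fun s => allB 126 fun t => Nat.blt (Rf s t) 126 && Nat.beq (Rf s (Rf s t)) t)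

theorem tet_base_ok : tetBaseOK = true := by decide +kernel

noncomputable def comInvOK (k : ℕ) : Bool :=
  allB 126 fun s => allB 126 fun t => com (Rf (tid (Le k)) s) (Rf (tid (Le k)) t) == com s t

theorem com_inv_ok : allB 7 comInvOK = true := by decide +kernel

noncomputable def refInvOK (k : ℕ) : Bool :=
  allB 126 fun s => allB 126 fun t =>
    Nat.beq (Rf (Rf (tid (Le k)) s) t) (Rf (tid (Le k)) (Rf s (Rf (tid (Le k)) t)))

theorem ref_inv_ok : allB 7 refInvOK = true := by decide +kernel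

noncomputable def distinctOK : Bool :=
  allB 126 fun s => allB 126 fun t => Nat.beq s t ||
    ((List.range 126).any (fun m => !(com s m == com t m)) && (List.range 126).any fun m => !(Nat.beq (Rf s m) (Rf t m)))

theorem distinct_ok : distinctOK = true := by decide +kernel

theorem tid_lt {i : ℕ} (hi : i < 504) : tid i < 126 := by
  have h := tet_base_ok
  simp only [tetBaseOK, Bool.and_eq_true] at h
  simpa [Nat.blt_eq] using allB_spec h.1.1.1 i hi

theorem repT_spec {t : ℕ} (ht : t < 126) : repT t < 504 ∧ tid (repT t) = t := by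
  have h := tet_base_ok
  simp only [tetBaseOK, Bool.and_eq_true] at h
  have h1 := allB_spec h.1.1.2 t ht
  simp only [Bool.and_eq_true, Nat.blt_eq] at h1
  exact ⟨h1.1, Nat.eq_of_beq_eq_true h1.2⟩

theorem let_tid {k : ℕ} (hk : k < 7) {j : ℕ} (hj : j < 504) :
    tid (gg (LR k) j) = Rf (tid (Le k)) (tid j) ∧ (gg (LR k) j = j ↔ com (tid (Le k)) (tid j) = true) := by
  have h := tet_base_ok
  simp only [tetBaseOK, Bool.and_eq_true] at h
  have h1 := allB_spec (allB_spec h.1.2 k hk) j hj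
  simp only [Bool.and_eq_true, beq_iff_eq] at h1
  refine ⟨Nat.eq_of_beq_eq_true h1.1, ?_⟩
  rw [← h1.2, Nat.beq_eq]

theorem Rf_spec {s t : ℕ} (hs : s < 126) (ht : t < 126) : Rf s t < 126 ∧ Rf s (Rf s t) = t := by
  have h := tet_base_ok
  simp only [tetBaseOK, Bool.and_eq_true] at h
  have h1 := allB_spec (allB_spec h.2 s hs) t ht
  simp only [Bool.and_eq_true, Nat.blt_eq] at h1
  exact ⟨h1.1, Nat.eq_of_beq_eq_true h1.2⟩

theorem com_inv {k s t : ℕ} (hk : k < 7) (hs : s < 126) (ht : t < 126) :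
    com (Rf (tid (Le k)) s) (Rf (tid (Le k)) t) = com s t :=
  beq_iff_eq.1 (allB_spec (allB_spec (allB_spec com_inv_ok k hk) s hs) t ht)

theorem ref_inv {k s t : ℕ} (hk : k < 7) (hs : s < 126) (ht : t < 126) :
    Rf (Rf (tid (Le k)) s) t = Rf (tid (Le k)) (Rf s (Rf (tid (Le k)) t)) :=
  Nat.eq_of_beq_eq_true (allB_spec (allB_spec (allB_spec ref_inv_ok k hk) s hs) t ht)

theorem tt_P_lt_iff {k : ℕ} (hk : k < 7) {m : ℕ} (hm : m < 504) :
    rho (tt (Le k)) (P m) = P m ↔ gg (LR k) m = m := by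
  obtain ⟨h1, h2⟩ := let_at hk m hm
  rw [h2]
  exact ⟨fun e => P_inj h1 hm e, fun e => by rw [e]⟩

/-- The commutation of the fixed points is that of their tetrads. -/
theorem comm_iff : ∀ i < 504, ∀ m < 504, (rho (tt i) (P m) = P m ↔ com (tid i) (tid m) = true) := by
  refine reach (fun k hk m hm => by rw [tt_P_lt_iff hk hm]; exact (let_tid hk hm).2) fun k hk j hj ih m hm => ?_
  obtain ⟨h1, h2⟩ := let_at hk m hm
  have hs := tid_lt (Le_lt hk)
  have e : rho (tt (gg (LR k) j)) (P m) = P m ↔ rho (tt j) (P (gg (LR k) m)) = P (gg (LR k) m) := by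
    rw [tt_step hk hj, rho_mul, rho_mul, h2]
    constructor
    · intro e
      have e' := congrArg (rho (tt (Le k))) e
      rwa [← rho_mul, tt_sq, map_one, Equiv.Perm.one_apply, h2] at e'
    · intro e
      rw [e, ← h2, ← rho_mul, tt_sq, map_one, Equiv.Perm.one_apply]
  rw [e, ih _ h1, (let_tid hk hj).1, (let_tid hk hm).1]
  obtain ⟨r1, r2⟩ := Rf_spec hs (tid_lt hm)
  conv_rhs => rw [← r2]
  rw [com_inv hk (tid_lt hj) r1]

theorem tid_eq_iff {i j : ℕ} (hi : i < 504) (hj : j < 504) :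
    tid i = tid j ↔ ∀ m < 504, (rho (tt i) (P m) = P m ↔ rho (tt j) (P m) = P m) := by
  constructor
  · intro e m hm
    rw [comm_iff i hi m hm, comm_iff j hj m hm, e]
  · intro h
    have h1 := allB_spec (allB_spec distinct_ok _ (tid_lt hi)) _ (tid_lt hj)
    simp only [Bool.or_eq_true, Bool.and_eq_true, List.any_eq_true, List.mem_range] at h1
    refine Nat.eq_of_beq_eq_true (h1.resolve_right ?_)
    rintro ⟨⟨m, hm, hne⟩, -⟩
    obtain ⟨hr, he⟩ := repT_spec hm
    have h2 := h _ hr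
    rw [comm_iff i hi _ hr, comm_iff j hj _ hr, he, ← Bool.eq_iff_iff] at h2
    rw [h2] at hne
    simp at hne

open Classical in
/-- The index of a point. -/
noncomputable def ix (p : Fin nPts) : ℕ := if h : ∃ j < 504, p = P j then h.choose else 0

theorem ix_lt (p : Fin nPts) : ix p < 504 := by
  rw [ix]; split
  · next h => exact h.choose_spec.1
  · decide

/-- The image of an index. -/
noncomputable def img (g : X₀) (i : ℕ) : ℕ := ix (rho g (P i))

theorem img_lt (g : X₀) (i : ℕ) : img g i < 504 := ix_lt _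

theorem img_spec {g : X₀} (hg : g ∈ Cz) {i : ℕ} (hi : i < 504) : rho g (P i) = P (img g i) := by
  have h : ∃ j < 504, rho g (P i) = P j := mem_P (by
    rw [← rho_mul, ← mem_Cz.1 hg, rho_mul, rho_z0_P hi])
  rw [img, ix, dif_pos h]
  exact h.choose_spec.2

theorem img_eq {g : X₀} (hg : g ∈ Cz) {i j : ℕ} (hi : i < 504) (hj : j < 504) (h : rho g (P i) = P j) :
    img g i = j :=
  P_inj (img_lt g i) hj ((img_spec hg hi).symm.trans h)

theorem img_mul {g h : X₀} (hg : g ∈ Cz) (hh : h ∈ Cz) {i : ℕ} (hi : i < 504) :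
    img (g * h) i = img g (img h i) :=
  img_eq (mul_mem hg hh) hi (img_lt _ _) (by rw [rho_mul, img_spec hh hi, img_spec hg (img_lt _ _)])

theorem img_of_at {g : X₀} (hg : g ∈ Cz) {r : ℕ} (h : At g r) {j : ℕ} (hj : j < 504) : img g j = gg r j :=
  img_eq hg hj (h j hj).1 (h j hj).2

theorem comm_conj {g : X₀} (hg : g ∈ Cz) {i m : ℕ} (hi : i < 504) (hm : m < 504) :
    rho (tt (img g i)) (P (img g m)) = P (img g m) ↔ rho (tt i) (P m) = P m := by
  rw [tt_conj (img_spec hg hi), ← img_spec hg hm, rho_mul, rho_mul, rho_inv_apply]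
  exact (rho g).injective.eq_iff

theorem tid_img {g : X₀} (hg : g ∈ Cz) {i j : ℕ} (hi : i < 504) (hj : j < 504) (h : tid i = tid j) :
    tid (img g i) = tid (img g j) := by
  rw [tid_eq_iff (img_lt _ _) (img_lt _ _)]
  intro m hm
  have hg' := inv_mem hg
  have e : m = img g (img g⁻¹ m) := by
    rw [← img_mul hg hg' hm, mul_inv_cancel]
    exact (img_eq (one_mem _) hm hm (by rw [map_one]; rfl)).symm
  rw [e, comm_conj hg hi (img_lt _ _), comm_conj hg hj (img_lt _ _)]
  exact (tid_eq_iff hi hj).1 h _ (img_lt _ _)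

/-- The image of a tetrad. -/
noncomputable def psiFun (g : X₀) (t : Fin 126) : Fin 126 := ⟨tid (img g (repT t)), tid_lt (img_lt _ _)⟩

theorem psiFun_tid {g : X₀} (hg : g ∈ Cz) {i : ℕ} (hi : i < 504) :
    (psiFun g ⟨tid i, tid_lt hi⟩ : ℕ) = tid (img g i) :=
  tid_img hg (repT_spec (tid_lt hi)).1 hi (repT_spec (tid_lt hi)).2

theorem psiFun_one (t : Fin 126) : psiFun 1 t = t :=
  Fin.ext (by
    show tid (img 1 (repT t)) = t
    rw [img_eq (one_mem _) (repT_spec t.2).1 (repT_spec t.2).1 (by rw [map_one]; rfl), (repT_spec t.2).2])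

theorem psiFun_mul {g h : X₀} (hg : g ∈ Cz) (hh : h ∈ Cz) (t : Fin 126) :
    psiFun (g * h) t = psiFun g (psiFun h t) :=
  Fin.ext ((congrArg tid (img_mul hg hh (repT_spec t.2).1)).trans (psiFun_tid hg (img_lt _ _)).symm)

/-- The centralizer acting on the tetrads. -/
noncomputable def psi : ↥Cz →* Equiv.Perm (Fin 126) where
  toFun g :=
    { toFun := psiFun g
      invFun := psiFun (g : X₀)⁻¹
      left_inv := fun t => by rw [← psiFun_mul (inv_mem g.2) g.2, inv_mul_cancel, psiFun_one]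
      right_inv := fun t => by rw [← psiFun_mul g.2 (inv_mem g.2), mul_inv_cancel, psiFun_one] }
  map_one' := Equiv.ext fun t => psiFun_one t
  map_mul' g h := Equiv.ext fun t => psiFun_mul g.2 h.2 t

theorem psi_apply (g : ↥Cz) {i : ℕ} (hi : i < 504) :
    (psi g ⟨tid i, tid_lt hi⟩ : ℕ) = tid (img g i) := psiFun_tid g.2 hi

/-- The reflection of a tetrad as a permutation. -/
noncomputable def Rp (s : Fin 126) : Equiv.Perm (Fin 126) :=
  Function.Involutive.toPerm (fun t => ⟨Rf s t, (Rf_spec s.2 t.2).1⟩) fun t => Fin.ext (Rf_spec s.2 t.2).2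

theorem Rp_apply (s t : Fin 126) : (Rp s t : ℕ) = Rf s t := rfl

theorem Rp_inj : Function.Injective Rp := by
  intro s t e
  have h1 := allB_spec (allB_spec distinct_ok _ s.2) _ t.2
  simp only [Bool.or_eq_true, Bool.and_eq_true, List.any_eq_true, List.mem_range, Bool.not_eq_true'] at h1
  refine Fin.ext (Nat.eq_of_beq_eq_true (h1.resolve_right ?_))
  rintro ⟨-, m, hm, hne⟩
  exact Nat.ne_of_beq_eq_false hne (congrArg Fin.val (Equiv.congr_fun e ⟨m, hm⟩))

/-- A transposition as an element of the centralizer. -/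
noncomputable def tc (i : ℕ) (hi : i < 504) : ↥Cz := ⟨tt i, tt_mem hi⟩

theorem psi_tt : ∀ i < 504, ∀ hi : i < 504, psi (tc i hi) = Rp ⟨tid i, tid_lt hi⟩ := by
  refine reach (fun k hk hi => Equiv.ext fun t => Fin.ext ?_) fun k hk j hj ih hi => Equiv.ext fun t => Fin.ext ?_
  · obtain ⟨hr, he⟩ := repT_spec t.2
    show tid (img (tt (Le k)) (repT t)) = Rf (tid (Le k)) t
    rw [img_of_at (tt_mem (Le_lt hk)) (let_at hk) hr, (let_tid hk hr).1, he]
  · have hl := Le_lt hk
    obtain ⟨hr, he⟩ := repT_spec t.2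
    have hs := tid_lt hl
    show tid (img (tt (gg (LR k) j)) (repT t)) = Rf (tid (gg (LR k) j)) t
    rw [tt_step hk hj, mul_assoc, img_mul (tt_mem hl) (mul_mem (tt_mem hj) (tt_mem hl)) hr,
      img_mul (tt_mem hj) (tt_mem hl) hr, img_of_at (tt_mem hl) (let_at hk) (img_lt _ _),
      (let_tid hk (img_lt _ _)).1, (let_tid hk hj).1, ref_inv hk (tid_lt hj) t.2]
    congr 1
    have h1 := psi_apply (tc j hj) (img_lt (tt (Le k)) (repT t))
    rw [ih hj, Rp_apply] at h1
    refine h1.symm.trans (congrArg (Rf (tid j)) ?_)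
    show tid (img (tt (Le k)) (repT t)) = _
    rw [img_of_at (tt_mem hl) (let_at hk) hr, (let_tid hk hr).1, he]

end CfsgLib.Spor.Fi24Four
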