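/-
Descending along a base: candidates, elements given by rows, contradictions.
-/
import Cfsg.Agent.Lib.Spor.Fi24Four.Tet

set_option autoImplicit false

namespace CfsgLib.Spor.Fi24Four

open CfsgLib.Spor.TC CfsgLib.Spor.Fi24 CfsgLib.Spor.Fi24Class CfsgLib.Spor.Fi24Seven

set_option maxRecDepth 100000

/-- One index is to another as a third, in commutation and in being mates. -/
def relT (p q b : ℕ) : Bool :=
  (com (tid p) (tid q) == com (tid p) (tid b)) && (Nat.beq (tid q) (tid p) == Nat.beq (tid b) (tid p))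

/-- An index may be the image of a base index, its predecessors being fixed. -/
def prefT (B : List ℕ) (i q : ℕ) : Bool :=
  !(memb (B.take i) q) && (B.take i).all fun p => relT p q (B.getD i 0)

/-- An element fixes an index. -/
def Fixes (g : X₀) (j : ℕ) : Prop := rho g (P j) = P j

theorem img_id {g : X₀} (hg : g ∈ Cz) {p : ℕ} (hp : p < 504) (h : Fixes g p) : img g p = p := img_eq hg hp hp h

theorem relT_img {g : X₀} (hg : g ∈ Cz) {p b : ℕ} (hp : p < 504) (hb : b < 504) (h : Fixes g p) :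
    relT p (img g b) b = true := by
  have hq := img_lt g b
  simp only [relT, Bool.and_eq_true, beq_iff_eq]
  constructor
  · refine Bool.eq_iff_iff.2 ?_
    rw [← comm_iff p hp _ hq, ← comm_iff p hp _ hb]
    have := comm_conj hg hp hb
    rwa [img_id hg hp h] at this
  · refine Bool.eq_iff_iff.2 ?_
    rw [Nat.beq_eq, Nat.beq_eq]
    refine ⟨fun e => ?_, fun e => ?_⟩
    · have h1 := tid_img (inv_mem hg) hq hp e
      have hb' : img g⁻¹ (img g b) = b := by
        rw [← img_mul (inv_mem hg) hg hb, inv_mul_cancel]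
        exact img_eq (one_mem _) hb hb (by rw [map_one]; rfl)
      have hp' : img g⁻¹ p = p := img_eq (inv_mem hg) hp hp (by
        conv_lhs => rw [← h]
        exact rho_inv_apply g (P p))
      rwa [hb', hp'] at h1
    · have h1 := tid_img hg hb hp e
      rwa [img_id hg hp h] at h1

theorem prefT_img {B : List ℕ} (hB : ∀ b ∈ B, b < 504) {i : ℕ} (hi : i < B.length) (hnd : B.Nodup) {g : X₀}
    (hg : g ∈ Cz) (hfix : ∀ p ∈ B.take i, Fixes g p) : prefT B i (img g (B.getD i 0)) = true := by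
  have hb : B.getD i 0 = B[i] := List.getD_eq_getElem _ _ hi
  have hb' : B.getD i 0 < 504 := hb ▸ hB _ (List.getElem_mem hi)
  simp only [prefT, Bool.and_eq_true, List.all_eq_true, Bool.not_eq_true']
  refine ⟨?_, fun p hp => relT_img hg (hB p (List.mem_of_mem_take hp)) hb' (hfix p hp)⟩
  by_contra hne
  rw [Bool.not_eq_false] at hne
  have hm := mem_of_memb hne
  have hp := hB _ (List.mem_of_mem_take hm)
  have e : B.getD i 0 = img g (B.getD i 0) :=
    P_inj hb' hp ((rho g).injective ((img_spec hg hb').trans (hfix _ hm).symm))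
  rw [← e, hb] at hm
  obtain ⟨j, hj, hji⟩ := List.getElem_of_mem hm
  rw [List.getElem_take] at hji
  rw [List.length_take] at hj
  exact absurd (hnd.getElem_inj_iff.1 hji) (by omega)

/-- The rows of elements made from generators. -/
def slpOK (R I : List ℕ) (E : List (List (ℕ × Bool))) (ng : ℕ) : Bool :=
  Nat.beq R.length (ng + E.length) &&
    allB R.length (fun n => allB 504 fun j =>
      Nat.blt (gg (I.getD n 0) j) 504 && Nat.beq (gg (R.getD n 0) (gg (I.getD n 0) j)) j) &&
    allB E.length fun m => (E.getD m []).all (fun x => Nat.blt x.1 (ng + m)) &&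
      allB 504 fun j => Nat.beq (comps ((E.getD m []).map fun x => if x.2 then I.getD x.1 0 else R.getD x.1 0) j)
        (gg (R.getD (ng + m) 0) j)

theorem slp_mem {R I : List ℕ} {E : List (List (ℕ × Bool))} {ng : ℕ} (h : slpOK R I E ng = true)
    (Γ : Subgroup X₀) (hgen : ∀ n < ng, ∃ u ∈ Γ, At u (R.getD n 0)) :
    ∀ n < R.length, ∃ u ∈ Γ, At u (R.getD n 0) := by
  simp only [slpOK, Bool.and_eq_true] at h
  obtain ⟨⟨hlen, hinv⟩, hE⟩ := h
  intro n
  induction n using Nat.strong_induction_on with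
  | _ n ih =>
    intro hn
    by_cases hng : n < ng
    · exact hgen n hng
    obtain ⟨m, rfl⟩ := Nat.exists_eq_add_of_le (not_lt.1 hng)
    rw [Nat.eq_of_beq_eq_true hlen] at hn
    have hm : m < E.length := by omega
    have h1 := allB_spec hE m hm
    simp only [Bool.and_eq_true, List.all_eq_true, Nat.blt_eq] at h1
    obtain ⟨hidx, hrow⟩ := h1
    have hl : ∀ l : List (ℕ × Bool), (∀ x ∈ l, x.1 < ng + m) → ∃ gs : List X₀,
        List.Forall₂ At gs (l.map fun x => if x.2 then I.getD x.1 0 else R.getD x.1 0) ∧ gs.prod ∈ Γ := by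
      intro l
      induction l with
      | nil => exact fun _ => ⟨[], List.Forall₂.nil, one_mem _⟩
      | cons x l ihl =>
        intro hx
        obtain ⟨gs, h1, h2⟩ := ihl fun y hy => hx y (List.mem_cons_of_mem _ hy)
        have hxl := hx x List.mem_cons_self
        obtain ⟨u, hu, hat⟩ := ih x.1 hxl (by rw [Nat.eq_of_beq_eq_true hlen]; omega)
        have hinv' : ∀ j < 504, gg (I.getD x.1 0) j < 504 ∧ gg (R.getD x.1 0) (gg (I.getD x.1 0) j) = j := by
          intro j hj
          have := allB_spec (allB_spec hinv x.1 (by rw [Nat.eq_of_beq_eq_true hlen]; omega)) j hj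
          simp only [Bool.and_eq_true, Nat.blt_eq] at this
          exact ⟨this.1, Nat.eq_of_beq_eq_true this.2⟩
        rcases x with ⟨a, _ | _⟩
        · exact ⟨u :: gs, List.Forall₂.cons hat h1, by rw [List.prod_cons]; exact mul_mem hu h2⟩
        · exact ⟨u⁻¹ :: gs, List.Forall₂.cons (hat.inv hinv') h1, by
            rw [List.prod_cons]; exact mul_mem (inv_mem hu) h2⟩
    obtain ⟨gs, h1, h2⟩ := hl _ hidx
    refine ⟨gs.prod, h2, fun j hj => ?_⟩
    rw [← Nat.eq_of_beq_eq_true (allB_spec hrow j hj)]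
    exact at_prod h1 j hj

/-- One level: the candidates lie in the tree grown by the elements. -/
def levOK (R B : List ℕ) (cand : ℕ → Bool) (i : ℕ) (v : ℕ × ℕ × ℕ × ℕ) : Bool :=
  Nat.beq (gg v.2.1 0) (B.getD i 0) &&
    allB v.1 (fun n => Nat.beq n 0 ||
      (Nat.blt (Nat.shiftRight (gw v.2.2.1 n) 16) R.length && Nat.blt (Nat.land (gw v.2.2.1 n) 65535) n &&
        Nat.beq (gg (R.getD (Nat.shiftRight (gw v.2.2.1 n) 16) 0) (gg v.2.1 (Nat.land (gw v.2.2.1 n) 65535)))
          (gg v.2.1 n) &&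
        (B.take i).all fun b => Nat.beq (gg (R.getD (Nat.shiftRight (gw v.2.2.1 n) 16) 0) b) b)) &&
    allB 504 fun q => !(cand q) || (Nat.blt (gg v.2.2.2 q) v.1 && Nat.beq (gg v.2.1 (gg v.2.2.2 q)) q)

/-- All levels. -/
def chainOK (R B : List ℕ) (cand : ℕ → ℕ → Bool) (V : List (ℕ × ℕ × ℕ × ℕ)) : Bool :=
  B.all (Nat.blt · 504) && allB B.length fun i => levOK R B (cand i) i (V.getD i (0, 0, 0, 0))

theorem descend {R B : List ℕ} {cand : ℕ → ℕ → Bool} {V : List (ℕ × ℕ × ℕ × ℕ)} (hok : chainOK R B cand V = true)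
    {Γ S : Subgroup X₀} (hΓS : Γ ≤ S) (hS : S ≤ Cz) (hR : ∀ n < R.length, ∃ u ∈ Γ, At u (R.getD n 0))
    (hcand : ∀ g ∈ S, ∀ i < B.length, (∀ p ∈ B.take i, Fixes g p) → cand i (img g (B.getD i 0)) = true)
    {g : X₀} (hg : g ∈ S) : ∃ u ∈ Γ, ∀ p ∈ B, Fixes (u⁻¹ * g) p := by
  simp only [chainOK, Bool.and_eq_true, List.all_eq_true, Nat.blt_eq] at hok
  obtain ⟨hB, hlev⟩ := hok
  suffices h : ∀ i ≤ B.length, ∃ u ∈ Γ, ∀ p ∈ B.take i, Fixes (u⁻¹ * g) p by
    obtain ⟨u, hu, hp⟩ := h B.length le_rfl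
    exact ⟨u, hu, fun p hpB => hp p (by rwa [List.take_length])⟩
  intro i
  induction i with
  | zero => exact fun _ => ⟨1, one_mem _, fun p hp => absurd hp (by simp)⟩
  | succ i ih =>
    intro hi
    obtain ⟨u, hu, hfix⟩ := ih (by omega)
    have hil : i < B.length := by omega
    have hb : B.getD i 0 < 504 := by
      rw [List.getD_eq_getElem _ _ hil]; exact hB _ (List.getElem_mem hil)
    have hh : u⁻¹ * g ∈ S := mul_mem (inv_mem (hΓS hu)) hg
    have h1 := allB_spec hlev i hil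
    simp only [levOK, Bool.and_eq_true] at h1
    obtain ⟨⟨hroot, htree⟩, hcov⟩ := h1
    set v := V.getD i (0, 0, 0, 0)
    have hq := allB_spec hcov _ (img_lt (u⁻¹ * g) (B.getD i 0))
    simp only [hcand _ hh i hil hfix, Bool.not_true, Bool.false_or, Bool.and_eq_true, Nat.blt_eq] at hq
    have key : ∀ n, n < v.1 → ∃ w ∈ Γ, rho w (P (B.getD i 0)) = P (gg v.2.1 n) ∧ gg v.2.1 n < 504 ∧
        ∀ p ∈ B.take i, Fixes w p := by
      intro n
      induction n using Nat.strong_induction_on with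
      | _ n ihn =>
        intro hn
        have h2 := allB_spec htree n hn
        simp only [Bool.or_eq_true, Bool.and_eq_true, List.all_eq_true, Nat.blt_eq] at h2
        rcases h2 with h2 | ⟨⟨⟨he, ha⟩, hmove⟩, hfx⟩
        · rw [Nat.eq_of_beq_eq_true h2, Nat.eq_of_beq_eq_true hroot]
          exact ⟨1, one_mem _, by rw [map_one]; rfl, hb, fun p _ => by rw [Fixes, map_one]; rfl⟩
        · obtain ⟨w, hw, hw1, hw2, hw3⟩ := ihn _ ha (ha.trans hn)
          obtain ⟨e, heΓ, hat⟩ := hR _ he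
          have hm := hat _ hw2
          rw [Nat.eq_of_beq_eq_true hmove] at hm
          refine ⟨e * w, mul_mem heΓ hw, ?_, hm.1, fun p hp => ?_⟩
          · rw [rho_mul, hw1, hm.2]
          · rw [Fixes, rho_mul, hw3 p hp, (hat p (hB p (List.mem_of_mem_take hp))).2,
              Nat.eq_of_beq_eq_true (hfx p hp)]
    obtain ⟨w, hw, hw1, -, hw3⟩ := key _ hq.1
    refine ⟨u * w, mul_mem hu hw, fun p hp => ?_⟩
    rw [List.take_succ_eq_append_getElem hil, List.mem_append, List.mem_singleton] at hp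
    have e : rho ((u * w)⁻¹ * g) (P p) = rho w⁻¹ (rho (u⁻¹ * g) (P p)) := by
      rw [← rho_mul, mul_inv_rev, mul_assoc]
    rw [Fixes, e]
    rcases hp with hp | rfl
    · rw [hfix p hp]
      conv_lhs => rw [← hw3 p hp]
      exact rho_inv_apply _ _
    · rw [← List.getD_eq_getElem _ 0 hil, img_spec (hS hh) hb, ← Nat.eq_of_beq_eq_true hq.2, ← hw1, rho_inv_apply]

/-- The row of an index among the known ones. -/
def rowOf (a : ℕ) : ℕ := ((rowIn allRows a).getD (0, 0)).2

/-- The row of an index is known. -/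
def hasRow (a : ℕ) : Bool := (rowIn allRows a).isSome

theorem rowOf_at {a : ℕ} (h : hasRow a = true) : a < 504 ∧ At (tt a) (rowOf a) := by
  obtain ⟨w, hw⟩ := Option.isSome_iff_exists.1 h
  have hwa : w.1 = a := Nat.eq_of_beq_eq_true (List.find?_some (p := fun x : ℕ × ℕ => Nat.beq x.1 a) hw)
  have := rows_at w (List.mem_of_find?_eq_some hw)
  rw [hwa] at this
  rw [rowOf, hw, Option.getD_some]
  exact this

/-- Pairs grown by a list of steps. -/
def grow : List (ℕ × ℕ) → List (ℕ × ℕ) → List (ℕ × ℕ)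
  | [], pr => pr
  | s :: st, pr => grow st (pr ++ [(gg (rowOf (pr.getD s.1 (0, 0)).1) (pr.getD s.2 (0, 0)).1,
      gg (rowOf (pr.getD s.1 (0, 0)).2) (pr.getD s.2 (0, 0)).2)])

/-- The steps are legal. -/
def growOK : List (ℕ × ℕ) → List (ℕ × ℕ) → Bool
  | [], _ => true
  | s :: st, pr => Nat.blt s.1 pr.length && Nat.blt s.2 pr.length && hasRow (pr.getD s.1 (0, 0)).1 &&
      hasRow (pr.getD s.1 (0, 0)).2 &&
      growOK st (pr ++ [(gg (rowOf (pr.getD s.1 (0, 0)).1) (pr.getD s.2 (0, 0)).1,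
        gg (rowOf (pr.getD s.1 (0, 0)).2) (pr.getD s.2 (0, 0)).2)])

/-- A contradiction from pairs. -/
def sepOK (init steps : List (ℕ × ℕ)) (u v : ℕ) : Bool :=
  growOK steps init && Nat.blt u (grow steps init).length && Nat.blt v (grow steps init).length &&
    Nat.beq ((grow steps init).getD u (0, 0)).1 ((grow steps init).getD v (0, 0)).1 &&
    !(Nat.beq ((grow steps init).getD u (0, 0)).2 ((grow steps init).getD v (0, 0)).2)

/-- An element maps one index to another. -/
def Sends (g : X₀) (e : ℕ × ℕ) : Prop := e.1 < 504 ∧ e.2 < 504 ∧ rho g (P e.1) = P e.2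

theorem sends_getD {g : X₀} {pr : List (ℕ × ℕ)} (h : ∀ e ∈ pr, Sends g e) {i : ℕ} (hi : i < pr.length) :
    Sends g (pr.getD i (0, 0)) := by
  rw [List.getD_eq_getElem _ _ hi]; exact h _ (List.getElem_mem hi)

theorem sends_grow {g : X₀} : ∀ (st pr : List (ℕ × ℕ)), growOK st pr = true → (∀ e ∈ pr, Sends g e) →
    ∀ e ∈ grow st pr, Sends g e
  | [], _, _, h => h
  | s :: st, pr, hok, h => by
    rw [growOK] at hok
    simp only [Bool.and_eq_true, Nat.blt_eq] at hok
    obtain ⟨⟨⟨⟨h1, h2⟩, h3⟩, h4⟩, h5⟩ := hok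
    refine sends_grow st _ h5 fun e he => ?_
    rcases List.mem_append.1 he with he | he
    · exact h e he
    obtain rfl := List.mem_singleton.1 he
    obtain ⟨ha, hb, hab⟩ := sends_getD h h1
    obtain ⟨hx, hy, hxy⟩ := sends_getD h h2
    obtain ⟨-, hra⟩ := rowOf_at h3
    obtain ⟨-, hrb⟩ := rowOf_at h4
    refine ⟨(hra _ hx).1, (hrb _ hy).1, ?_⟩
    rw [← (hra _ hx).2, ← (hrb _ hy).2, tt_conj hab, ← hxy, rho_mul, rho_mul, rho_inv_apply]

theorem sep_false {g : X₀} {init steps : List (ℕ × ℕ)} {u v : ℕ} (hok : sepOK init steps u v = true)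
    (h : ∀ e ∈ init, Sends g e) : False := by
  simp only [sepOK, Bool.and_eq_true, Nat.blt_eq, Bool.not_eq_true'] at hok
  obtain ⟨⟨⟨⟨hg, hu⟩, hv⟩, he⟩, hne⟩ := hok
  have hall := sends_grow _ _ hg h
  obtain ⟨-, hu2, hu3⟩ := sends_getD hall hu
  obtain ⟨-, hv2, hv3⟩ := sends_getD hall hv
  refine Nat.ne_of_beq_eq_false hne (P_inj hu2 hv2 ?_)
  rw [← hu3, ← hv3, Nat.eq_of_beq_eq_true he]

/-- An element fixing the seven fixes all. -/
theorem fix_all {g : X₀} (h : ∀ k < 7, Fixes g (Le k)) : ∀ j < 504, Fixes g j := by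
  refine reach h fun k hk j hj ih => ?_
  obtain ⟨-, h2⟩ := let_at hk j hj
  have hc : Commute g (tt (Le k)) := fix_iff_commute.1 (h k hk)
  show rho g (P (gg (LR k) j)) = P (gg (LR k) j)
  rw [← h2, rho_comm hc, ih]

end CfsgLib.Spor.Fi24Four
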