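/-
The centralizer is generated by its transpositions and one further involution, and the parity on tetrads.
-/
import Cfsg.Agent.Lib.Spor.Fi24Four.Descent
import Cfsg.Agent.Lib.Spor.Fi24Four.Data.Full

set_option autoImplicit false

namespace CfsgLib.Spor.Fi24Four

open CfsgLib.Spor.TC CfsgLib.Spor.Fi24 CfsgLib.Spor.Fi24Class CfsgLib.Spor.Fi24Seven

set_option maxRecDepth 100000

/-- The last point after the base. -/
def lastPt : ℕ := 117

noncomputable def fullOK : Bool :=
  chainOK Data.fullR Data.fullB (prefT Data.fullB) Data.fullV && slpOK Data.fullR Data.fullI Data.fullE 8 &&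
    allB 7 (fun k => Nat.beq (Data.fullR.getD k 0) (LR k)) && Nat.beq (Data.fullR.getD 7 0) Data.outR &&
    allB 7 (fun k => memb (Data.fullB ++ [lastPt]) (Le k))

theorem full_ok : fullOK = true := by decide +kernel

noncomputable def lastOK : Bool :=
  allB 504 (fun q => memb Data.fullB q || !(Data.fullB.all fun p => relT p q lastPt) || Nat.beq q lastPt ||
    Data.fullS.any fun e => Nat.beq e.1 q &&
      sepOK (Data.fullB.map (fun b => (b, b)) ++ [(lastPt, q)]) e.2.1 e.2.2.1 e.2.2.2)

theorem last_ok : lastOK = true := by decide +kernel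

theorem fullB_nodup : Data.fullB.Nodup := by decide +kernel

/-- The subgroup generated by the transpositions of the fixed points. -/
noncomputable def Hs : Subgroup X₀ := Subgroup.closure {x | ∃ i < 504, tt i = x}

theorem tt_Hs {i : ℕ} (hi : i < 504) : tt i ∈ Hs := Subgroup.subset_closure ⟨i, hi, rfl⟩

theorem Hs_le : Hs ≤ Cz := by
  rw [Hs, Subgroup.closure_le]
  rintro _ ⟨i, hi, rfl⟩
  exact tt_mem hi

theorem conj_Hs {g : X₀} (hg : g ∈ Cz) {x : X₀} (hx : x ∈ Hs) : g * x * g⁻¹ ∈ Hs := by
  induction hx using Subgroup.closure_induction with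
  | mem x hx =>
    obtain ⟨i, hi, rfl⟩ := hx
    rw [← tt_conj (img_spec hg hi)]
    exact tt_Hs (img_lt _ _)
  | one => rw [mul_one, mul_inv_cancel]; exact one_mem _
  | mul x y _ _ hx hy =>
    rw [show g * (x * y) * g⁻¹ = g * x * g⁻¹ * (g * y * g⁻¹) by group]
    exact mul_mem hx hy
  | inv x _ hx =>
    rw [show g * x⁻¹ * g⁻¹ = (g * x * g⁻¹)⁻¹ by group]
    exact inv_mem hx

theorem z0_Hs : z0 ∈ Hs := by
  have h : ∀ x : Fin 12, (x : ℕ) ∈ zW → gen x ∈ Hs := by
    intro x hx
    have hw : ∀ a ∈ zW, walk zW (gpts.getD a 0) = gpts.getD a 0 := by decide +kernel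
    obtain ⟨j, hj, e⟩ := mem_P (p := gpt x) (Fin.ext ((rho_z0_val _).trans (hw _ hx)))
    rw [← trp_gpt, e]
    exact tt_Hs hj
  have h0 := h 0 (by decide)
  have h2 := h 2 (by decide)
  have h4 := h 4 (by decide)
  have h6 := h 6 (by decide)
  rw [show z0 = gen 0 * (gen 2 * (gen 4 * gen 6)) by simp [z0, zW, el, ev, gen]]
  exact mul_mem h0 (mul_mem h2 (mul_mem h4 h6))

/-- The subgroup generated by the letters and the outer element. -/
noncomputable def Gam : Subgroup X₀ := Subgroup.closure (insert hh (Hs : Set X₀))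

theorem Gam_le : Gam ≤ Cz := by
  rw [Gam, Subgroup.closure_le]
  exact Set.insert_subset hh_mem Hs_le

theorem gam_cases {g : X₀} (hg : g ∈ Gam) : g ∈ Hs ∨ g * hh ∈ Hs := by
  have hinv : hh⁻¹ = hh := inv_eq_of_mul_eq_one_right hh_sq
  have hc : ∀ x ∈ Hs, hh * x * hh ∈ Hs := fun x hx => by
    have := conj_Hs hh_mem hx
    rwa [hinv] at this
  induction hg using Subgroup.closure_induction with
  | mem x hx =>
    rcases hx with rfl | hx
    · exact Or.inr (by rw [hh_sq]; exact one_mem _)
    · exact Or.inl hx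
  | one => exact Or.inl (one_mem _)
  | mul x y _ _ hx hy =>
    rcases hx with hx | hx <;> rcases hy with hy | hy
    · exact Or.inl (mul_mem hx hy)
    · exact Or.inr (by rw [mul_assoc]; exact mul_mem hx hy)
    · refine Or.inr ?_
      have : x * y * hh = x * hh * (hh * y * hh) := by
        rw [show x * hh * (hh * y * hh) = x * (hh * hh) * y * hh by group, hh_sq, mul_one]
      rw [this]; exact mul_mem hx (hc y hy)
    · refine Or.inl ?_
      have : x * y = x * hh * (hh * (y * hh) * hh) := by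
        rw [show x * hh * (hh * (y * hh) * hh) = x * (hh * hh) * y * (hh * hh) by group, hh_sq, mul_one, mul_one]
      rw [this]; exact mul_mem hx (hc _ hy)
  | inv x _ hx =>
    rcases hx with hx | hx
    · exact Or.inl (inv_mem hx)
    · refine Or.inr ?_
      have h1 := inv_mem (hc _ hx)
      rw [show hh * (x * hh) * hh = hh * x * (hh * hh) by group, hh_sq, mul_one, mul_inv_rev, hinv] at h1
      exact h1

theorem gens_full : ∀ n < 8, ∃ u ∈ Gam, At u (Data.fullR.getD n 0) := by
  have h := full_ok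
  simp only [fullOK, Bool.and_eq_true] at h
  intro n hn
  by_cases h7 : n < 7
  · rw [Nat.eq_of_beq_eq_true (allB_spec h.1.1.2 n h7)]
    exact ⟨_, Subgroup.subset_closure (Set.mem_insert_of_mem _ (tt_Hs (Le_lt h7))), let_at h7⟩
  · obtain rfl : n = 7 := by omega
    rw [Nat.eq_of_beq_eq_true h.1.2]
    exact ⟨_, Subgroup.subset_closure (Set.mem_insert _ _), hh_at⟩

theorem Cz_le : Cz ≤ Gam := by
  intro g hg
  have h := full_ok
  simp only [fullOK, Bool.and_eq_true] at h
  obtain ⟨⟨⟨⟨hch, hslp⟩, -⟩, -⟩, hlet⟩ := h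
  have hB : ∀ b ∈ Data.fullB, b < 504 := by
    have := hch
    simp only [chainOK, Bool.and_eq_true, List.all_eq_true, Nat.blt_eq] at this
    exact this.1
  obtain ⟨u, hu, hfix⟩ := descend hch Gam_le le_rfl (slp_mem hslp Gam gens_full)
    (fun k hk i hi hf => prefT_img hB hi fullB_nodup hk hf) hg
  set k := u⁻¹ * g
  have hk : k ∈ Cz := mul_mem (inv_mem (Gam_le hu)) hg
  have hl : lastPt < 504 := by decide
  have hq := img_lt k lastPt
  have hlast : Fixes k lastPt := by
    have h1 := allB_spec last_ok _ hq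
    simp only [Bool.or_eq_true, Bool.not_eq_true'] at h1
    rcases h1 with ((h1 | h1) | h1) | h1
    · exfalso
      have hm := mem_of_memb h1
      have hp := hB _ hm
      have e : lastPt = img k lastPt :=
        P_inj hl hp ((rho k).injective ((img_spec hk hl).trans (hfix _ hm).symm))
      rw [← e] at hm
      exact (show lastPt ∉ Data.fullB by decide +kernel) hm
    · rw [List.all_eq_false] at h1
      obtain ⟨p, hp, hne⟩ := h1
      exact absurd (relT_img hk (hB p hp) hl (hfix p hp)) hne
    · have := img_spec hk hl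
      rwa [Nat.eq_of_beq_eq_true h1] at this
    · simp only [List.any_eq_true, Bool.and_eq_true] at h1
      obtain ⟨e, -, -, hsep⟩ := h1
      refine (sep_false (g := k) hsep fun x hx => ?_).elim
      rcases List.mem_append.1 hx with hx | hx
      · obtain ⟨b, hb, rfl⟩ := List.mem_map.1 hx
        exact ⟨hB b hb, hB b hb, hfix b hb⟩
      · obtain rfl := List.mem_singleton.1 hx
        exact ⟨hl, hq, img_spec hk hl⟩
  have hall : ∀ j < 504, Fixes k j := fix_all fun n hn => by
    rcases List.mem_append.1 (mem_of_memb (allB_spec hlet n hn)) with hm | hm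
    · exact hfix _ hm
    · rw [List.mem_singleton.1 hm]; exact hlast
  have hkG : k ∈ Gam := by
    rcases eq_of_fix hk hall with e | e <;> rw [e]
    · exact one_mem _
    · exact Subgroup.subset_closure (Set.mem_insert_of_mem _ z0_Hs)
  have := mul_mem hu hkG
  rwa [mul_inv_cancel_left] at this

/-- An element of the centralizer is in the subgroup of transpositions, up to the outer element. -/
theorem cz_cases {g : X₀} (hg : g ∈ Cz) : g ∈ Hs ∨ g * hh ∈ Hs := gam_cases (Cz_le hg)

/-- A product of exchanges. -/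
def swapsP (l : List (Fin 126 × Fin 126)) : Equiv.Perm (Fin 126) := (l.map fun e => Equiv.swap e.1 e.2).prod

/-- A number as a tetrad. -/
def f126 (n : ℕ) : Fin 126 := ⟨n % 126, Nat.mod_lt _ (by norm_num)⟩

/-- The exchanges of a letter. -/
def letSw (k : ℕ) : List (Fin 126 × Fin 126) := (Data.letS.getD k []).map fun e => (f126 e.1, f126 e.2)

/-- The exchanges of the outer element. -/
def outSw : List (Fin 126 × Fin 126) := Data.outS.map fun e => (f126 e.1, f126 e.2)

/-- The exchanges acting on numbers. -/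
def swNat (l : List (Fin 126 × Fin 126)) (t : ℕ) : ℕ :=
  l.foldr (fun e v => if Nat.beq v e.1 then (e.2 : ℕ) else if Nat.beq v e.2 then (e.1 : ℕ) else v) t

theorem swapsP_val : ∀ (l : List (Fin 126 × Fin 126)) (t : Fin 126), (swapsP l t : ℕ) = swNat l t
  | [], _ => rfl
  | e :: l, t => by
    have ih := swapsP_val l t
    rw [swapsP] at ih ⊢
    rw [List.map_cons, List.prod_cons, Equiv.Perm.mul_apply, swNat, List.foldr_cons,
      ← show swNat l t = List.foldr (fun (e : Fin 126 × Fin 126) (v : ℕ) =>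
        if Nat.beq v e.1 then (e.2 : ℕ) else if Nat.beq v e.2 then (e.1 : ℕ) else v) (t : ℕ) l from rfl, ← ih]
    generalize (List.map (fun e => Equiv.swap e.1 e.2) l).prod t = x
    simp only [Nat.beq_eq, ← Fin.ext_iff, Equiv.swap_apply_def]
    split
    · rfl
    · split <;> rfl

noncomputable def parityOK : Bool :=
  allB 7 (fun k => (letSw k).all (fun e => !(Nat.beq e.1 e.2)) && Nat.beq ((letSw k).length % 2) 0 &&
      allB 126 fun t => Nat.beq (swNat (letSw k) t) (Rf (tid (Le k)) t)) &&
    outSw.all (fun e => !(Nat.beq e.1 e.2)) && Nat.beq (outSw.length % 2) 1 &&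
    allB 504 (fun j => Nat.beq (tid (gg Data.outR j)) (gg Data.outT (tid j))) &&
    allB 126 fun t => Nat.beq (swNat outSw t) (gg Data.outT t)

theorem parity_ok : parityOK = true := by decide +kernel

theorem sign_swapsP : ∀ l : List (Fin 126 × Fin 126), (∀ e ∈ l, e.1 ≠ e.2) →
    Equiv.Perm.sign (swapsP l) = (-1) ^ l.length
  | [], _ => by simp [swapsP]
  | e :: l, h => by
    have ih := sign_swapsP l fun x hx => h x (List.mem_cons_of_mem _ hx)
    rw [swapsP] at ih ⊢
    rw [List.map_cons, List.prod_cons, map_mul, Equiv.Perm.sign_swap (h e List.mem_cons_self), ih,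
      List.length_cons, pow_succ, mul_comm]

theorem psi_out (t : Fin 126) : (psi ⟨hh, hh_mem⟩ t : ℕ) = gg Data.outT t := by
  have h := parity_ok
  simp only [parityOK, Bool.and_eq_true] at h
  obtain ⟨hr, he⟩ := repT_spec t.2
  show tid (img hh (repT t)) = _
  rw [img_of_at hh_mem hh_at hr, Nat.eq_of_beq_eq_true (allB_spec h.1.2 _ hr), he]

theorem sign_out : Equiv.Perm.sign (psi ⟨hh, hh_mem⟩) = -1 := by
  have h := parity_ok
  simp only [parityOK, Bool.and_eq_true, List.all_eq_true, Bool.not_eq_true'] at h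
  rw [show psi ⟨hh, hh_mem⟩ = swapsP outSw from Equiv.ext fun t => Fin.ext (by
    rw [psi_out, swapsP_val, Nat.eq_of_beq_eq_true (allB_spec h.2 t t.2)]),
    sign_swapsP _ fun e he r => Nat.ne_of_beq_eq_false (h.1.1.1.2 e he) (congrArg Fin.val r)]
  exact Odd.neg_one_pow (Nat.odd_iff.2 (Nat.eq_of_beq_eq_true h.1.1.2))

theorem sign_Rp : ∀ i < 504, ∀ hi : i < 504, Equiv.Perm.sign (Rp ⟨tid i, tid_lt hi⟩) = 1 := by
  have h := parity_ok
  simp only [parityOK, Bool.and_eq_true] at h
  refine reach (fun k hk hi => ?_) fun k hk j hj ih hi => ?_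
  · have h1 := allB_spec h.1.1.1.1 k hk
    simp only [Bool.and_eq_true, List.all_eq_true, Bool.not_eq_true'] at h1
    rw [show Rp ⟨tid (Le k), tid_lt hi⟩ = swapsP (letSw k) from Equiv.ext fun t => Fin.ext (by
      rw [swapsP_val, Rp_apply, Nat.eq_of_beq_eq_true (allB_spec h1.2 t t.2)]),
      sign_swapsP _ fun e he r => Nat.ne_of_beq_eq_false (h1.1.1 e he) (congrArg Fin.val r)]
    exact Even.neg_one_pow (Nat.even_iff.2 (Nat.eq_of_beq_eq_true h1.1.2))
  · rw [← psi_tt _ hi hi, show tc (gg (LR k) j) hi = tc (Le k) (Le_lt hk) * tc j hj * tc (Le k) (Le_lt hk) from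
      Subtype.ext (tt_step hk hj), map_mul, map_mul, map_mul, map_mul, psi_tt j hj hj, ih hj, mul_one,
      Int.units_mul_self]

theorem sign_Hs {g : X₀} (hg : g ∈ Hs) : Equiv.Perm.sign (psi ⟨g, Hs_le hg⟩) = 1 := by
  induction hg using Subgroup.closure_induction with
  | mem x hx =>
    obtain ⟨i, hi, rfl⟩ := hx
    rw [show (⟨tt i, _⟩ : ↥Cz) = tc i hi from rfl, psi_tt i hi hi, sign_Rp i hi hi]
  | one => rw [show (⟨1, _⟩ : ↥Cz) = 1 from rfl, map_one, map_one]
  | mul x y hx' hy' hx hy =>
    rw [show (⟨x * y, _⟩ : ↥Cz) = ⟨x, Hs_le hx'⟩ * ⟨y, Hs_le hy'⟩ from rfl, map_mul, map_mul, hx, hy, one_mul]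
  | inv x hx' hx =>
    rw [show (⟨x⁻¹, _⟩ : ↥Cz) = ⟨x, Hs_le hx'⟩⁻¹ from rfl, map_inv, map_inv, hx, inv_one]

theorem hh_not_Hs : hh ∉ Hs := fun h => by
  have := (sign_Hs h).symm.trans sign_out
  exact absurd this (by decide)

end CfsgLib.Spor.Fi24Four
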