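/-
The kernel of the action on the tetrads.
-/
import Cfsg.Agent.Lib.Spor.Fi24Four.Full
import Cfsg.Agent.Lib.Spor.Fi24Four.Data.Kern
import Cfsg.Agent.Lib.Spor.PairAut.SmallGens

set_option autoImplicit false

namespace CfsgLib.Spor.Fi24Four

open CfsgLib.Spor.TC CfsgLib.Spor.Fi24 CfsgLib.Spor.Fi24Class CfsgLib.Spor.Fi24Seven
open CfsgLib.Spor.PairAut (span Gens)

set_option maxRecDepth 100000

/-- The first mate of a pair. -/
def qa (i : Fin 12) : ℕ := (Data.mateL.getD i (0, 0)).1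

/-- The second mate of a pair. -/
def qb (i : Fin 12) : ℕ := (Data.mateL.getD i (0, 0)).2

/-- The product of two mates. -/
noncomputable def qf (i : Fin 12) : X₀ := tt (qa i) * tt (qb i)

/-- The element of order three. -/
noncomputable def w3 : X₀ := (Data.triW.map fun k => tt (Le k)).prod

/-- The row of a generator. -/
def KR (n : ℕ) : ℕ := Data.kerR.getD n 0

noncomputable def kernOK : Bool :=
  allB 12 (fun i => hasRow (Data.mateL.getD i (0, 0)).1 && hasRow (Data.mateL.getD i (0, 0)).2 &&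
      Nat.beq (tid (Data.mateL.getD i (0, 0)).1) (tid (Data.mateL.getD i (0, 0)).2) &&
      allB 504 fun j => Nat.beq (gg (KR i) j)
        (gg (rowOf (Data.mateL.getD i (0, 0)).1) (gg (rowOf (Data.mateL.getD i (0, 0)).2) j))) &&
    Data.triW.all (Nat.blt · 7) &&
    allB 504 (fun j => Nat.beq (comps (Data.triW.map LR) j) (gg (KR 12) j) &&
      Nat.beq (tid (gg (KR 12) j)) (tid j))

theorem kern_ok : kernOK = true := by decide +kernel

theorem q_spec (i : Fin 12) : qa i < 504 ∧ qb i < 504 ∧ tid (qa i) = tid (qb i) ∧ At (qf i) (KR i) := by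
  have h := kern_ok
  simp only [kernOK, Bool.and_eq_true] at h
  have h1 := allB_spec h.1.1 i i.2
  simp only [Bool.and_eq_true] at h1
  obtain ⟨⟨⟨ha, hb⟩, ht⟩, hr⟩ := h1
  exact ⟨(rowOf_at ha).1, (rowOf_at hb).1, Nat.eq_of_beq_eq_true ht,
    (rowOf_at ha).2.mul (rowOf_at hb).2 fun j hj => Nat.eq_of_beq_eq_true (allB_spec hr j hj)⟩

theorem qf_Hs (i : Fin 12) : qf i ∈ Hs := mul_mem (tt_Hs (q_spec i).1) (tt_Hs (q_spec i).2.1)

theorem triW_lt : ∀ k ∈ Data.triW, k < 7 := by
  have h := kern_ok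
  simp only [kernOK, Bool.and_eq_true, List.all_eq_true, Nat.blt_eq] at h
  exact h.1.2

theorem w3_Hs : w3 ∈ Hs := list_prod_mem fun x hx => by
  obtain ⟨k, hk, rfl⟩ := List.mem_map.1 hx
  exact tt_Hs (Le_lt (triW_lt k hk))

theorem w3_at : At w3 (KR 12) := by
  have hl : ∀ l : List ℕ, (∀ k ∈ l, k < 7) →
      List.Forall₂ At (l.map fun k => tt (Le k)) (l.map LR) := by
    intro l
    induction l with
    | nil => exact fun _ => List.Forall₂.nil
    | cons k l ih =>
      intro hl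
      exact List.Forall₂.cons (let_at (hl k List.mem_cons_self)) (ih fun x hx => hl x (List.mem_cons_of_mem _ hx))
  intro j hj
  have h := kern_ok
  simp only [kernOK, Bool.and_eq_true] at h
  have h1 := allB_spec h.2 j hj
  simp only [Bool.and_eq_true] at h1
  rw [← Nat.eq_of_beq_eq_true h1.1]
  exact at_prod (hl _ triW_lt) j hj

theorem w3_tid {j : ℕ} (hj : j < 504) : tid (gg (KR 12) j) = tid j := by
  have h := kern_ok
  simp only [kernOK, Bool.and_eq_true] at h
  have h1 := allB_spec h.2 j hj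
  simp only [Bool.and_eq_true] at h1
  exact Nat.eq_of_beq_eq_true h1.2

/-- The subgroup generated by the products of mates. -/
noncomputable def Qs : Subgroup X₀ := span z0 qf

/-- With the element of order three. -/
noncomputable def Ns : Subgroup X₀ := Qs ⊔ Subgroup.zpowers w3

theorem Qs_le_Hs : Qs ≤ Hs := by
  rw [Qs, span, Subgroup.closure_le]
  refine Set.insert_subset z0_Hs ?_
  rintro _ ⟨i, rfl⟩
  exact qf_Hs i

theorem Ns_le_Hs : Ns ≤ Hs := sup_le Qs_le_Hs (Subgroup.zpowers_le.2 w3_Hs)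

/-- The kernel of the action on the tetrads. -/
noncomputable def Ks : Subgroup X₀ := psi.ker.map Cz.subtype

theorem mem_Ks {g : X₀} : g ∈ Ks ↔ g ∈ Cz ∧ ∀ j < 504, tid (img g j) = tid j := by
  constructor
  · rintro ⟨x, hx, rfl⟩
    refine ⟨x.2, fun j hj => ?_⟩
    have h := psi_apply x hj
    rw [MonoidHom.mem_ker.1 hx] at h
    exact h.symm
  · rintro ⟨hg, h⟩
    refine ⟨⟨g, hg⟩, MonoidHom.mem_ker.2 (Equiv.ext fun t => Fin.ext ?_), rfl⟩
    obtain ⟨hr, he⟩ := repT_spec t.2
    show tid (img g (repT t)) = (t : ℕ)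
    rw [h _ hr, he]

theorem z0_Ks : z0 ∈ Ks := mem_Ks.2 ⟨z0_mem, fun j hj => by rw [img_eq z0_mem hj hj (rho_z0_P hj)]⟩

theorem w3_Ks : w3 ∈ Ks := mem_Ks.2 ⟨Hs_le w3_Hs, fun j hj => by
  rw [img_of_at (Hs_le w3_Hs) w3_at hj, w3_tid hj]⟩

theorem qf_Ks (i : Fin 12) : qf i ∈ Ks := by
  obtain ⟨ha, hb, ht, -⟩ := q_spec i
  refine ⟨tc _ ha * tc _ hb, MonoidHom.mem_ker.2 ?_, rfl⟩
  rw [map_mul, psi_tt _ ha ha, psi_tt _ hb hb]
  rw [show (⟨tid (qb i), tid_lt hb⟩ : Fin 126) = ⟨tid (qa i), tid_lt ha⟩ from Fin.ext ht.symm]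
  refine Equiv.ext fun t => Fin.ext ?_
  show Rf (tid (qa i)) (Rf (tid (qa i)) t) = (t : ℕ)
  exact (Rf_spec (tid_lt ha) t.2).2

theorem Qs_le_Ks : Qs ≤ Ks := by
  rw [Qs, span, Subgroup.closure_le]
  refine Set.insert_subset z0_Ks ?_
  rintro _ ⟨i, rfl⟩
  exact qf_Ks i

theorem Ns_le_Ks : Ns ≤ Ks := sup_le Qs_le_Ks (Subgroup.zpowers_le.2 w3_Ks)

theorem Ks_le : Ks ≤ Cz := fun _ hg => (mem_Ks.1 hg).1

/-- A candidate in the kernel. -/
def kerCand (i q : ℕ) : Bool := Nat.beq (tid q) (tid (Data.kerB.getD i 0)) && prefT Data.kerB i q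

noncomputable def kerChainOK : Bool :=
  chainOK Data.kerR Data.kerB kerCand Data.kerV && slpOK Data.kerR Data.kerI Data.kerE 13 &&
    allB 7 (fun k => memb (Data.kerB ++ [2, lastPt]) (Le k))

theorem ker_chain_ok : kerChainOK = true := by decide +kernel

noncomputable def kerLastOK : Bool :=
  allB 504 fun a => !(Nat.beq (tid a) (tid 2)) || memb Data.kerB a || allB 504 fun b =>
    !(Nat.beq (tid b) (tid lastPt)) || memb Data.kerB b || (Nat.beq a 2 && Nat.beq b lastPt) ||
      Data.kerS.any fun e => Nat.beq e.1 a && Nat.beq e.2.1 b &&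
        sepOK (Data.kerB.map (fun x => (x, x)) ++ [(2, a), (lastPt, b)]) e.2.2.1 e.2.2.2.1 e.2.2.2.2

theorem ker_last_ok : kerLastOK = true := by decide +kernel

theorem kerB_nodup : Data.kerB.Nodup ∧ 2 ∉ Data.kerB ∧ lastPt ∉ Data.kerB := by decide +kernel

/-- The kernel consists of the products of mates and powers of the element of order three. -/
theorem Ks_eq : Ks = Ns := by
  refine le_antisymm (fun g hg => ?_) Ns_le_Ks
  have h := ker_chain_ok
  simp only [kerChainOK, Bool.and_eq_true] at h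
  obtain ⟨⟨hch, hslp⟩, hlet⟩ := h
  have hB : ∀ b ∈ Data.kerB, b < 504 := by
    have := hch
    simp only [chainOK, Bool.and_eq_true, List.all_eq_true, Nat.blt_eq] at this
    exact this.1
  have hgen : ∀ n < 13, ∃ u ∈ Ns, At u (Data.kerR.getD n 0) := by
    intro n hn
    by_cases hn' : n < 12
    · exact ⟨qf ⟨n, hn'⟩, Subgroup.mem_sup_left (Gens.gen_mem _), (q_spec ⟨n, hn'⟩).2.2.2⟩
    · obtain rfl : n = 12 := by omega
      exact ⟨w3, Subgroup.mem_sup_right (Subgroup.mem_zpowers _), w3_at⟩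
  obtain ⟨u, hu, hfix⟩ := descend hch Ns_le_Ks Ks_le (slp_mem hslp Ns hgen)
    (fun k hk i hi hf => by
      obtain ⟨hkc, htid⟩ := mem_Ks.1 hk
      simp only [kerCand, Bool.and_eq_true]
      refine ⟨?_, prefT_img hB hi kerB_nodup.1 hkc hf⟩
      rw [List.getD_eq_getElem _ _ hi, htid _ (hB _ (List.getElem_mem hi))]
      exact Nat.beq_refl _) hg
  obtain ⟨hkc, htid⟩ := mem_Ks.1 (mul_mem (inv_mem (Ns_le_Ks hu)) hg : u⁻¹ * g ∈ Ks)
  set k := u⁻¹ * g
  have h2 : (2 : ℕ) < 504 := by decide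
  have hl : lastPt < 504 := by decide
  have hnotB : ∀ x, x < 504 → x ∉ Data.kerB → memb Data.kerB (img k x) = false := by
    intro x hx hxn
    by_contra hne
    rw [Bool.not_eq_false] at hne
    have hm := mem_of_memb hne
    have hp := hB _ hm
    have e : x = img k x :=
      P_inj hx hp ((rho k).injective ((img_spec hkc hx).trans (hfix _ hm).symm))
    rw [← e] at hm
    exact hxn hm
  have hab : img k 2 = 2 ∧ img k lastPt = lastPt := by
    have h1 := allB_spec ker_last_ok _ (img_lt k 2)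
    simp only [htid 2 h2, Nat.beq_refl, hnotB 2 h2 kerB_nodup.2.1, Bool.not_true, Bool.false_or] at h1
    have h3 := allB_spec h1 _ (img_lt k lastPt)
    simp only [htid _ hl, Nat.beq_refl, hnotB _ hl kerB_nodup.2.2, Bool.not_true, Bool.false_or,
      Bool.or_eq_true, Bool.and_eq_true, List.any_eq_true] at h3
    rcases h3 with ⟨e1, e2⟩ | ⟨e, -, -, hsep⟩
    · exact ⟨Nat.eq_of_beq_eq_true e1, Nat.eq_of_beq_eq_true e2⟩
    · refine (sep_false (g := k) hsep fun x hx => ?_).elim
      rcases List.mem_append.1 hx with hx | hx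
      · obtain ⟨b, hb, rfl⟩ := List.mem_map.1 hx
        exact ⟨hB b hb, hB b hb, hfix b hb⟩
      · simp only [List.mem_cons, List.not_mem_nil, or_false] at hx
        rcases hx with rfl | rfl
        · exact ⟨h2, img_lt _ _, img_spec hkc h2⟩
        · exact ⟨hl, img_lt _ _, img_spec hkc hl⟩
  have hall : ∀ j < 504, Fixes k j := fix_all fun n hn => by
    have hm := mem_of_memb (allB_spec hlet n hn)
    simp only [List.mem_append, List.mem_cons, List.not_mem_nil, or_false] at hm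
    rcases hm with hm | hm | hm
    · exact hfix _ hm
    · rw [hm, Fixes, img_spec hkc h2, hab.1]
    · rw [hm, Fixes, img_spec hkc hl, hab.2]
  have hkN : k ∈ Ns := by
    rcases eq_of_fix hkc hall with e | e <;> rw [e]
    · exact one_mem _
    · exact Subgroup.mem_sup_left Gens.z_mem
  have := mul_mem hu hkN
  rwa [mul_inv_cancel_left] at this

end CfsgLib.Spor.Fi24Four
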