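/-
The extraspecial group of the products of mates and its centralizer.
-/
import Cfsg.Agent.Lib.Spor.Fi24Four.Kern

set_option autoImplicit false

namespace CfsgLib.Spor.Fi24Four

open CfsgLib.Spor.TC CfsgLib.Spor.Fi24 CfsgLib.Spor.Fi24Class CfsgLib.Spor.Fi24Seven
open CfsgLib.Spor.PairAut (span Gens zp row)

set_option maxRecDepth 100000

/-- The commutator table. -/
def bT (i k : Fin 12) : Bool := gb (Data.mateB.getD i 0) k

/-- The word of a product of mates. -/
def qW (i : ℕ) : List (List ℕ) :=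
  ([(Data.mateW.getD i ([], [])).1] ++ [0] :: rev [(Data.mateW.getD i ([], [])).1]) ++
    ([(Data.mateW.getD i ([], [])).2] ++ [0] :: rev [(Data.mateW.getD i ([], [])).2])

noncomputable def mateOK : Bool :=
  allB 12 fun i => below [(Data.mateW.getD i ([], [])).1] && below [(Data.mateW.getD i ([], [])).2] &&
    below (qW i) &&
    Nat.beq (run [(Data.mateW.getD i ([], [])).1] 0) (pN (Data.mateL.getD i (0, 0)).1) &&
    Nat.beq (run [(Data.mateW.getD i ([], [])).2] 0) (pN (Data.mateL.getD i (0, 0)).2) &&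
    com (tid (Data.mateL.getD i (0, 0)).1) (tid (Data.mateL.getD i (0, 0)).2)

theorem mate_ok : mateOK = true := by decide +kernel

noncomputable def commOK : Bool :=
  allB 12 fun i => allB 12 fun k =>
    allB 504 (fun j => Nat.beq (comps [KR i, KR k, KR i, KR k] j) j) &&
      Nat.beq (run (qW i ++ (qW k ++ (qW i ++ qW k))) 2) (if gb (Data.mateB.getD i 0) k then 3 else 2)

theorem comm_ok : commOK = true := by decide +kernel

theorem mate_spec (i : Fin 12) : qf i = pel (qW i) ∧ below (qW i) = true ∧ qf i * qf i = 1 := by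
  have h := allB_spec mate_ok i i.2
  simp only [Bool.and_eq_true] at h
  obtain ⟨⟨⟨⟨⟨h1, h2⟩, h3⟩, h4⟩, h5⟩, h6⟩ := h
  obtain ⟨ha, hb, -, -⟩ := q_spec i
  refine ⟨?_, h3, ?_⟩
  · rw [qf, tt, tt, trp_pel h1 (by rw [P_val ha]; exact Nat.eq_of_beq_eq_true h4),
      trp_pel h2 (by rw [P_val hb]; exact Nat.eq_of_beq_eq_true h5), ← pel_append]
    rfl
  · have hf : rho (tt (qa i)) (P (qb i)) = P (qb i) := (comm_iff _ ha _ hb).2 h6
    have hc : Commute (tt (qa i)) (tt (qb i)) := fix_iff_commute.1 hf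
    rw [qf, show tt (qa i) * tt (qb i) * (tt (qa i) * tt (qb i)) =
      tt (qa i) * (tt (qb i) * tt (qa i)) * tt (qb i) by group, ← hc.eq, ← mul_assoc, tt_sq, one_mul, tt_sq]

theorem qf_Cz (i : Fin 12) : qf i ∈ Cz := Hs_le (qf_Hs i)

theorem qf_comm (i : Fin 12) : z0 * qf i = qf i * z0 := (mem_Cz.1 (qf_Cz i)).symm

theorem qf_inv (i : Fin 12) : (qf i)⁻¹ = qf i := inv_eq_of_mul_eq_one_right (mate_spec i).2.2

theorem gens_data : Gens z0 qf (fun _ => false) bT where
  zz := z0_sq
  ne := z0_ne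
  comm := qf_comm
  square i := by simp [zp, (mate_spec i).2.2]
  conj i k := by
    have h := allB_spec (allB_spec comm_ok i i.2) k k.2
    simp only [Bool.and_eq_true] at h
    obtain ⟨hrow, hpt⟩ := h
    set c := qf i * (qf k * (qf i * qf k)) with hc
    have hcC : c ∈ Cz := mul_mem (qf_Cz i) (mul_mem (qf_Cz k) (mul_mem (qf_Cz i) (qf_Cz k)))
    have hfix : ∀ j < 504, Fixes c j := fun j hj => by
      have hf := at_prod (gs := [qf i, qf k, qf i, qf k]) (rs := [KR i, KR k, KR i, KR k])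
        (.cons (q_spec i).2.2.2 (.cons (q_spec k).2.2.2 (.cons (q_spec i).2.2.2 (.cons (q_spec k).2.2.2 .nil)))) j hj
      rw [Nat.eq_of_beq_eq_true (allB_spec hrow j hj)] at hf
      simpa [Fixes, hc] using hf.2
    have hbel : below (qW i ++ (qW k ++ (qW i ++ qW k))) = true := by
      have h1 := (mate_spec i).2.1
      have h2 := (mate_spec k).2.1
      simp only [below, List.all_append, Bool.and_eq_true] at h1 h2 ⊢
      exact ⟨h1, h2, h1, h2⟩
    have hv : (rho c (pnt 2) : ℕ) = if bT i k then 3 else 2 := by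
      rw [hc, (mate_spec i).1, (mate_spec k).1, ← pel_append, ← pel_append, ← pel_append, rho_pel hbel,
        pnt_val (by decide)]
      exact Nat.eq_of_beq_eq_true hpt
    have hz : (rho z0 (pnt 2) : ℕ) = 3 := by
      rw [rho_z0_val, pnt_val (by decide)]; exact link_facts.2.2.2.2.1
    have e : c = zp z0 (bT i k) := by
      rcases eq_of_fix hcC hfix with e | e <;> rw [e] at hv ⊢
      · rw [map_one, Equiv.Perm.one_apply, pnt_val (by decide)] at hv
        cases hb : bT i k
        · simp [zp]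
        · rw [hb] at hv; simp at hv
      · rw [hz] at hv
        cases hb : bT i k
        · rw [hb] at hv; simp at hv
        · simp [zp]
    have hzc : zp z0 (bT i k) * qf k = qf k * zp z0 (bT i k) := by
      cases bT i k
      · simp [zp]
      · simpa [zp] using qf_comm k
    rw [← hzc, ← e, hc, qf_inv]
    simp only [mul_assoc, (mate_spec k).2.2, mul_one]

theorem bT_nondeg : ∀ e : Fin 12 → Bool, (∀ k, row bT e k = false) → e = fun _ => false := by decide +kernel

theorem Qs_card : Nat.card Qs = 2 ^ 13 := by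
  haveI := finite_X
  exact gens_data.card_eq bT_nondeg

theorem Qs_extraspecial : Cfsg.IsExtraspecial 2 ↥Qs := by
  haveI := finite_X
  exact gens_data.extraspecial bT_nondeg (by norm_num)

/-- The row of a conjugating generator. -/
def CR (n : ℕ) : ℕ := if Nat.blt n 7 then LR n else Data.outR

/-- The rows of the chosen products. -/
def selR (n i : ℕ) : List ℕ :=
  ((List.finRange 12).filter fun k : Fin 12 => gb ((Data.mateC.getD n []).getD i 0) k).map fun k : Fin 12 => KR k

noncomputable def normOK : Bool :=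
  allB 8 fun n => allB 12 fun i => allB 504 fun j => Nat.beq (comps (selR n i) j) (comps [CR n, KR i, CR n] j)

theorem norm_ok : normOK = true := by decide +kernel

/-- A conjugating generator. -/
noncomputable def cg (n : ℕ) : X₀ := if n < 7 then tt (Le n) else hh

theorem cg_spec {n : ℕ} (_ : n < 8) : cg n ∈ Cz ∧ (cg n)⁻¹ = cg n ∧ At (cg n) (CR n) := by
  unfold cg CR
  by_cases h : n < 7
  · rw [if_pos h, if_pos (by rw [Nat.blt_eq]; exact h)]
    exact ⟨tt_mem (Le_lt h), tt_inv _, let_at h⟩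
  · rw [if_neg h, if_neg (by rw [Nat.blt_eq]; exact h)]
    exact ⟨hh_mem, inv_eq_of_mul_eq_one_right hh_sq, hh_at⟩

theorem Qs_le_Cz : Qs ≤ Cz := Qs_le_Hs.trans Hs_le

theorem conj_qf {n : ℕ} (hn : n < 8) (i : Fin 12) : cg n * qf i * (cg n)⁻¹ ∈ Qs := by
  obtain ⟨hC, hinv, hat⟩ := cg_spec hn
  set s := ((List.finRange 12).filter fun k : Fin 12 => gb ((Data.mateC.getD n []).getD i 0) k).map qf with hs
  have hsQ : s.prod ∈ Qs := list_prod_mem fun x hx => by
    obtain ⟨k, -, rfl⟩ := List.mem_map.1 hx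
    exact Gens.gen_mem k
  have hF : List.Forall₂ At s (selR n i) := by
    rw [hs, selR]
    induction (List.finRange 12).filter fun k : Fin 12 => gb ((Data.mateC.getD n []).getD i 0) k with
    | nil => exact List.Forall₂.nil
    | cons k l ih => exact List.Forall₂.cons (q_spec k).2.2.2 ih
  set x := cg n * qf i * (cg n)⁻¹ with hx
  have hxC : x ∈ Cz := mul_mem (mul_mem hC (qf_Cz i)) (inv_mem hC)
  have he : ∀ j < 504, Fixes (s.prod⁻¹ * x) j := fun j hj => by
    have h1 := at_prod (gs := [cg n, qf i, cg n]) (rs := [CR n, KR i, CR n])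
      (.cons hat (.cons (q_spec i).2.2.2 (.cons hat .nil))) j hj
    have h2 := at_prod hF j hj
    rw [Nat.eq_of_beq_eq_true (allB_spec (allB_spec (allB_spec norm_ok n hn) i i.2) j hj)] at h2
    rw [Fixes, rho_mul, hx, hinv, show cg n * qf i * cg n = [cg n, qf i, cg n].prod by simp [mul_assoc], h1.2,
      ← h2.2, rho_inv_apply]
  have hm : s.prod⁻¹ * x ∈ Qs := by
    rcases eq_of_fix (mul_mem (inv_mem (Qs_le_Cz hsQ)) hxC) he with e | e <;> rw [e]
    · exact one_mem _
    · exact Gens.z_mem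
  have := mul_mem hsQ hm
  rwa [mul_inv_cancel_left] at this

theorem tt_gens : ∀ i < 504, tt i ∈ Subgroup.closure {x : X₀ | ∃ k < 7, tt (Le k) = x} := by
  refine reach (p := fun i => tt i ∈ Subgroup.closure {x : X₀ | ∃ k < 7, tt (Le k) = x})
    (fun k hk => Subgroup.subset_closure ⟨k, hk, rfl⟩) fun k hk j hj ih => ?_
  rw [tt_step hk hj]
  exact mul_mem (mul_mem (Subgroup.subset_closure ⟨k, hk, rfl⟩) ih) (Subgroup.subset_closure ⟨k, hk, rfl⟩)

theorem Qs_normal {g q : X₀} (hg : g ∈ Cz) (hq : q ∈ Qs) : g * q * g⁻¹ ∈ Qs := by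
  haveI := finite_X
  have key : ∀ n < 8, ∀ x ∈ Qs, cg n * x * (cg n)⁻¹ ∈ Qs := by
    intro n hn x hx
    induction hx using Subgroup.closure_induction with
    | mem y hy =>
      rcases hy with rfl | ⟨i, rfl⟩
      · rw [mem_Cz.1 (cg_spec hn).1, mul_inv_cancel_right]; exact Gens.z_mem
      · exact conj_qf hn i
    | one => rw [mul_one, mul_inv_cancel]; exact one_mem _
    | mul a b _ _ ha hb =>
      rw [show cg n * (a * b) * (cg n)⁻¹ = cg n * a * (cg n)⁻¹ * (cg n * b * (cg n)⁻¹) by group]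
      exact mul_mem ha hb
    | inv a _ ha =>
      rw [show cg n * a⁻¹ * (cg n)⁻¹ = (cg n * a * (cg n)⁻¹)⁻¹ by group]
      exact inv_mem ha
  have hle : Gam ≤ Subgroup.closure {x : X₀ | ∃ n < 8, cg n = x} := by
    have hL : Hs ≤ Subgroup.closure {x : X₀ | ∃ n < 8, cg n = x} := by
      rw [Hs, Subgroup.closure_le]
      rintro _ ⟨i, hi, rfl⟩
      refine Subgroup.closure_mono ?_ (tt_gens i hi)
      rintro _ ⟨k, hk, rfl⟩
      exact ⟨k, by omega, by rw [cg, if_pos hk]⟩
    rw [Gam, Subgroup.closure_le]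
    exact Set.insert_subset (Subgroup.subset_closure ⟨7, by norm_num, by simp [cg]⟩) hL
  have hg' := hle (Cz_le hg)
  clear hg
  revert q
  induction hg' using Subgroup.closure_induction with
  | mem x hx =>
    obtain ⟨n, hn, rfl⟩ := hx
    exact fun hq => key n hn _ hq
  | one => intro q hq; simpa using hq
  | mul a b _ _ ha hb =>
    intro q hq
    rw [show a * b * q * (a * b)⁻¹ = a * (b * q * b⁻¹) * a⁻¹ by group]
    exact ha (hb hq)
  | inv a _ ha =>
    intro q hq
    let f : Qs → Qs := fun y => ⟨a * y * a⁻¹, ha y.2⟩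
    have hf : Function.Injective f := fun y y' e => by
      have := congrArg Subtype.val e
      exact Subtype.ext (mul_left_cancel (mul_right_cancel this))
    obtain ⟨y, hy⟩ := (Finite.injective_iff_surjective.1 hf) ⟨q, hq⟩
    have : a * (y : X₀) * a⁻¹ = q := congrArg Subtype.val hy
    rw [← this, inv_inv, show a⁻¹ * (a * (y : X₀) * a⁻¹) * a = y by group]
    exact y.2

noncomputable def w3OK : Bool :=
  allB 504 (fun j => Nat.beq (comps [KR 12, KR 12, KR 12] j) j) &&
    (List.range 504).any (fun j => !(Nat.beq (comps [KR 12, KR 12] j) j)) &&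
    (List.range 12).any (fun i => (List.range 504).any fun j =>
      !(Nat.beq (comps [KR 12, KR i] j) (comps [KR i, KR 12] j))) &&
    (List.range 12).any (fun i => (List.range 504).any fun j =>
      !(Nat.beq (comps [KR 12, KR 12, KR i] j) (comps [KR i, KR 12, KR 12] j)))

theorem w3_ok : w3OK = true := by decide +kernel

theorem w3_cube : w3 * w3 * w3 ∈ Qs := by
  have h := w3_ok
  simp only [w3OK, Bool.and_eq_true] at h
  have hC := Hs_le w3_Hs
  have he : ∀ j < 504, Fixes (w3 * w3 * w3) j := fun j hj => by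
    have h1 := at_prod (gs := [w3, w3, w3]) (rs := [KR 12, KR 12, KR 12])
      (.cons w3_at (.cons w3_at (.cons w3_at .nil))) j hj
    rw [Nat.eq_of_beq_eq_true (allB_spec h.1.1.1 j hj)] at h1
    simpa [Fixes, mul_assoc] using h1.2
  rcases eq_of_fix (mul_mem (mul_mem hC hC) hC) he with e | e <;> rw [e]
  · exact one_mem _
  · exact Gens.z_mem

theorem w3_not_mem : w3 ∉ Qs := by
  haveI := finite_X
  intro hw
  have h := w3_ok
  simp only [w3OK, Bool.and_eq_true, List.any_eq_true, List.mem_range, Bool.not_eq_true'] at h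
  obtain ⟨j, hj, hne⟩ := h.1.1.2
  obtain ⟨h1, h2⟩ := at_prod (gs := [w3, w3]) (rs := [KR 12, KR 12]) (.cons w3_at (.cons w3_at .nil)) j hj
  refine Nat.ne_of_beq_eq_false hne (P_inj h1 hj ?_)
  rw [← h2, show [w3, w3].prod = w3 * w3 by simp]
  rcases gens_data.sq_mem hw with e | e <;> rw [e]
  · rw [map_one]; rfl
  · exact rho_z0_P hj

/-- The exponents below three. -/
theorem Ns_cases {g : X₀} (hg : g ∈ Ns) : ∃ q ∈ Qs, g = q ∨ g = q * w3 ∨ g = q * (w3 * w3) := by
  have hC := Hs_le w3_Hs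
  have hn : Subgroup.zpowers w3 ≤ Subgroup.normalizer (Qs : Set X₀) := by
    rw [Subgroup.zpowers_le, Subgroup.mem_normalizer_iff]
    refine fun q => ⟨fun hq => Qs_normal hC hq, fun hq => ?_⟩
    have := Qs_normal (inv_mem hC) hq
    rwa [show w3⁻¹ * (w3 * q * w3⁻¹) * w3⁻¹⁻¹ = q by group] at this
  have hm : g ∈ ((Qs ⊔ Subgroup.zpowers w3 : Subgroup X₀) : Set X₀) := hg
  rw [Subgroup.coe_mul_of_right_le_normalizer_left _ _ hn] at hm
  obtain ⟨q, hq, x, hx, rfl⟩ := hm
  obtain ⟨m, rfl⟩ := Subgroup.mem_zpowers_iff.1 hx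
  have e : w3 ^ m = (w3 * w3 * w3) ^ (m / 3) * w3 ^ ((m % 3).toNat) := by
    rw [← zpow_natCast, Int.toNat_of_nonneg (Int.emod_nonneg m (by norm_num)),
      show w3 * w3 * w3 = w3 ^ (3 : ℤ) by simp [zpow_ofNat, pow_succ], ← zpow_mul, ← zpow_add,
      Int.mul_ediv_add_emod]
  refine ⟨q * (w3 * w3 * w3) ^ (m / 3), mul_mem hq (Subgroup.zpow_mem _ w3_cube _), ?_⟩
  have hlt : (m % 3).toNat < 3 := by omega
  show q * w3 ^ m = _ ∨ q * w3 ^ m = _ ∨ q * w3 ^ m = _
  rw [e, ← mul_assoc]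
  interval_cases h : (m % 3).toNat
  · exact Or.inl (by rw [pow_zero, mul_one])
  · exact Or.inr (Or.inl (by rw [pow_one]))
  · exact Or.inr (Or.inr (by rw [pow_two]))

theorem Ns_card : Nat.card Ns = 3 * Nat.card Qs := by
  haveI := finite_X
  have hw : w3 ∈ Ns := Subgroup.mem_sup_right (Subgroup.mem_zpowers _)
  have h2 : w3 * w3 ∉ Qs := fun h => w3_not_mem (by
    have := mul_mem (mul_mem h h) (inv_mem w3_cube)
    rwa [show w3 * w3 * (w3 * w3) * (w3 * w3 * w3)⁻¹ = w3 by group] at this)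
  let v : Fin 3 → X₀ := ![1, w3, w3 * w3]
  have hv : ∀ e, v e ∈ Ns := by
    intro e; fin_cases e
    exacts [one_mem _, hw, mul_mem hw hw]
  let f : Fin 3 × Qs → Ns := fun p => ⟨p.2 * v p.1, mul_mem (Subgroup.mem_sup_left p.2.2) (hv _)⟩
  have hf : Function.Bijective f := by
    constructor
    · rintro ⟨a, q⟩ ⟨b, r⟩ h
      have h' : (q : X₀) * v a = r * v b := congrArg Subtype.val h
      have hd : v a * (v b)⁻¹ ∈ Qs := by
        have hh' : v a * (v b)⁻¹ = (q : X₀)⁻¹ * r := by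
          rw [eq_inv_mul_iff_mul_eq, ← mul_assoc, h', mul_inv_cancel_right]
        rw [hh']; exact mul_mem (inv_mem q.2) r.2
      have hab : a = b := by
        have n1 : w3⁻¹ ∉ Qs := fun h => w3_not_mem (inv_mem_iff.1 h)
        have n2 : (w3 * w3)⁻¹ ∉ Qs := fun h => h2 (inv_mem_iff.1 h)
        fin_cases a <;> fin_cases b <;> simp [v] at hd ⊢
        all_goals first
          | exact w3_not_mem hd
          | exact h2 hd
          | exact n1 hd
          | exact n2 (by rwa [mul_inv_rev])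
          | exact n1 (by rwa [show w3 * (w3⁻¹ * w3⁻¹) = w3⁻¹ by group] at hd)
          | exact w3_not_mem (by simpa [mul_assoc] using hd)
      subst hab
      simp only [Prod.mk.injEq, true_and]
      exact Subtype.ext (mul_right_cancel h')
    · rintro ⟨g, hg⟩
      obtain ⟨q, hq, e | e | e⟩ := Ns_cases hg
      · exact ⟨(0, ⟨q, hq⟩), Subtype.ext (by simp [f, v, e])⟩
      · exact ⟨(1, ⟨q, hq⟩), Subtype.ext (by simp [f, v, e])⟩
      · exact ⟨(2, ⟨q, hq⟩), Subtype.ext (by simp [f, v, e])⟩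
  rw [← Nat.card_eq_of_bijective f hf, Nat.card_prod, Nat.card_fin]

noncomputable def sigOK : Bool :=
  allB 504 (fun r => allB 12 fun i =>
    (gb (Data.sigL.getD (tid r) 0) i == Nat.beq (gg (KR i) r) r) &&
      allB 12 fun k => gb (Data.sigL.getD (tid r) 0) (12 + 12 * i + k) == Nat.beq (gg (KR i) (gg (KR k) r)) r) &&
    allB 126 fun s => allB 126 fun t => Nat.beq s t || (List.range 12).any fun i =>
      !(gb (Data.sigL.getD s 0) i == gb (Data.sigL.getD t 0) i) || (List.range 12).any fun k =>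
        !(gb (Data.sigL.getD s 0) (12 + 12 * i + k) == gb (Data.sigL.getD t 0) (12 + 12 * i + k))

theorem sig_ok : sigOK = true := by decide +kernel

theorem fix_transfer {g x : X₀} (hg : g ∈ Cz) (hc : Commute g x) {r : ℕ} (hat : At x r) {j : ℕ} (hj : j < 504) :
    gg r (img g j) = img g j ↔ gg r j = j := by
  have h1 := hat _ (img_lt g j)
  have h2 := hat _ hj
  have e : rho x (P (img g j)) = rho g (rho x (P j)) := by rw [← img_spec hg hj, rho_comm hc]
  rw [h1.2, h2.2] at e
  constructor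
  · intro h
    rw [h, ← img_spec hg hj] at e
    exact P_inj h2.1 hj ((rho g).injective e.symm)
  · intro h
    rw [h, img_spec hg hj] at e
    exact P_inj h1.1 (img_lt _ _) e

/-- An element commuting with all products of mates acts trivially on the tetrads. -/
theorem centralizer_Ks {g : X₀} (hg : g ∈ Cz) (hc : ∀ i, Commute g (qf i)) : g ∈ Ks := by
  refine mem_Ks.2 ⟨hg, fun j hj => ?_⟩
  have h := sig_ok
  simp only [sigOK, Bool.and_eq_true] at h
  obtain ⟨hs, hd⟩ := h
  have hr := img_lt g j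
  have hd' := allB_spec (allB_spec hd _ (tid_lt hr)) _ (tid_lt hj)
  simp only [Bool.or_eq_true, List.any_eq_true, List.mem_range, Bool.not_eq_true', beq_eq_false_iff_ne] at hd'
  refine Nat.eq_of_beq_eq_true (hd'.resolve_right ?_)
  rintro ⟨i, hi, hne⟩
  have a1 := allB_spec (allB_spec hs _ hr) i hi
  have a2 := allB_spec (allB_spec hs _ hj) i hi
  simp only [Bool.and_eq_true, beq_iff_eq] at a1 a2
  rcases hne with hne | ⟨k, hk, hne⟩
  · refine hne ?_
    rw [a1.1, a2.1]
    refine Bool.eq_iff_iff.2 ?_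
    rw [Nat.beq_eq, Nat.beq_eq]
    exact fix_transfer hg (hc ⟨i, hi⟩) (q_spec ⟨i, hi⟩).2.2.2 hj
  · refine hne ?_
    have b1 := allB_spec a1.2 k hk
    have b2 := allB_spec a2.2 k hk
    rw [beq_iff_eq] at b1 b2
    rw [b1, b2]
    refine Bool.eq_iff_iff.2 ?_
    rw [Nat.beq_eq, Nat.beq_eq]
    -- the product of two generators
    have hx1 := (q_spec ⟨i, hi⟩).2.2.2
    have hx2 := (q_spec ⟨k, hk⟩).2.2.2
    have hp : Commute g (qf ⟨i, hi⟩ * qf ⟨k, hk⟩) := (hc _).mul_right (hc _)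
    have n1 := hx1 _ (hx2 _ hr).1
    have n2 := hx1 _ (hx2 _ hj).1
    have e : rho (qf ⟨i, hi⟩ * qf ⟨k, hk⟩) (P (img g j)) = rho g (rho (qf ⟨i, hi⟩ * qf ⟨k, hk⟩) (P j)) := by
      rw [← img_spec hg hj, rho_comm hp]
    rw [rho_mul, rho_mul, (hx2 _ hr).2, (hx2 _ hj).2, n1.2, n2.2] at e
    constructor
    · intro h
      rw [h, ← img_spec hg hj] at e
      exact P_inj n2.1 hj ((rho g).injective e.symm)
    · intro h
      rw [h, img_spec hg hj] at e
      exact P_inj n1.1 hr e

theorem rho_zp (b : Bool) {j : ℕ} (hj : j < 504) : rho (zp z0 b) (P j) = P j := by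
  cases b
  · simp [zp]
  · exact rho_z0_P hj

theorem w3_moves : (∃ i : Fin 12, ∀ b, w3 * qf i ≠ qf i * zp z0 b * w3) ∧
    ∃ i : Fin 12, ∀ b, w3 * w3 * qf i ≠ qf i * zp z0 b * (w3 * w3) := by
  have h := w3_ok
  simp only [w3OK, Bool.and_eq_true, List.any_eq_true, List.mem_range, Bool.not_eq_true'] at h
  obtain ⟨⟨-, ⟨i, hi, j, hj, hne⟩⟩, ⟨i', hi', j', hj', hne'⟩⟩ := h
  refine ⟨⟨⟨i, hi⟩, fun b hc => ?_⟩, ⟨⟨i', hi'⟩, fun b hc => ?_⟩⟩
  · have hq := (q_spec ⟨i, hi⟩).2.2.2
    have n1 := w3_at j hj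
    have n2 := hq j hj
    have n3 := w3_at _ n2.1
    have n4 := hq _ n1.1
    refine Nat.ne_of_beq_eq_false hne (P_inj n3.1 n4.1 ?_)
    have e := congrArg (fun x => rho x (P j)) hc
    simp only [rho_mul] at e
    rw [n2.2, n3.2, n1.2, rho_zp b n1.1, n4.2] at e
    exact e
  · have hq := (q_spec ⟨i', hi'⟩).2.2.2
    have n1 := w3_at j' hj'
    have n1' := w3_at _ n1.1
    have n2 := hq j' hj'
    have n3 := w3_at _ n2.1
    have n3' := w3_at _ n3.1
    have n4 := hq _ n1'.1
    refine Nat.ne_of_beq_eq_false hne' (P_inj n3'.1 n4.1 ?_)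
    have e := congrArg (fun x => rho x (P j')) hc
    simp only [rho_mul] at e
    rw [n2.2, n3.2, n3'.2, n1.2, n1'.2, rho_zp b n1'.1, n4.2] at e
    exact e

theorem twist {q v : X₀} (hq : q ∈ Qs) (i : Fin 12) (h : Commute (q * v) (qf i)) :
    ∃ b, v * qf i = qf i * zp z0 b * v := by
  haveI := finite_X
  obtain ⟨b, hb⟩ := gens_data.commutator_mem (inv_mem hq) (Gens.gen_mem i)
  refine ⟨b, ?_⟩
  rw [inv_inv] at hb
  rw [← hb, show q⁻¹ * qf i * q * v = q⁻¹ * (qf i * (q * v)) by group, ← h.eq]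
  group

/-- The centralizer of the extraspecial group lies in it. -/
theorem centralizer_Qs {g : X₀} (hc : ∀ q ∈ Qs, Commute g q) : g ∈ Qs := by
  haveI := finite_X
  have hg : g ∈ Cz := mem_Cz.2 (hc z0 Gens.z_mem).eq
  have hN : g ∈ Ns := Ks_eq ▸ centralizer_Ks hg fun i => hc _ (Gens.gen_mem i)
  obtain ⟨⟨i, hi⟩, ⟨i', hi'⟩⟩ := w3_moves
  obtain ⟨q, hq, rfl | rfl | rfl⟩ := Ns_cases hN
  · exact hq
  · obtain ⟨b, hb⟩ := twist hq i (hc _ (Gens.gen_mem i))
    exact absurd hb (hi b)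
  · obtain ⟨b, hb⟩ := twist hq i' (hc _ (Gens.gen_mem i'))
    exact absurd hb (hi' b)

end CfsgLib.Spor.Fi24Four
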