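/-
The derived group of a six-dimensional projective reflection group over the field with three elements.
-/
import Cfsg.Agent.Lib.Spor.Tri.LineOmega
import Cfsg.Agent.Lib.Spor.FischerTypes.ReflThree
import Cfsg.Agent.Lib.Classical.ExcIsoUnitary
import Cfsg.Agent.Lib.Classical.PSUSimple

set_option autoImplicit false

namespace CfsgLib.Spor.Fi24Four

open CfsgLib.Spor.Tri CfsgLib.Spor.Tri.Level CfsgLib.Spor.FischerTypes

/-- The field with nine elements. -/
abbrev Nine : Type := GaloisField 3 2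

noncomputable instance : Fintype Nine := Fintype.ofFinite _

theorem card_nine : Fintype.card Nine = 9 := by
  rw [← Nat.card_eq_fintype_card, GaloisField.card 3 2 (by norm_num)]
  norm_num

/-- The form of minus type in six variables. -/
noncomputable abbrev qMinus := Cfsg.quadFormMinus 2 (ZMod 3) (0 : ZMod 3) 1

theorem three_arith : (∀ z₁ z₂ : ZMod 3, z₁ ^ 2 + (0 : ZMod 3) * z₁ * z₂ + (1 : ZMod 3) * z₂ ^ 2 = 0 → z₁ = 0 ∧ z₂ = 0) ∧
    ((2 : ZMod 3) ^ 6 ≠ 0) ∧ ((4 : ZMod 3) ≠ 0) ∧ ((2 : ZMod 3) ^ 6 * 4 = 1 * 1) := by decide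

theorem minus_facts :
    Nonempty (Cfsg.POmega (ZMod 3) qMinus ≃* Cfsg.PSU 4 Nine 3) ∧ IsSimpleGroup (Cfsg.POmega (ZMod 3) qMinus) := by
  haveI : Fact (Nat.Prime 3) := ⟨Nat.prime_three⟩
  obtain ⟨f⟩ := CfsgLib.Classical.ExcIsoUnitary.omega_six_minus (F := ZMod 3) (K := Nine) (q := 3) (ZMod.card 3)
    (card_nine.trans (by norm_num)) (a := (0 : ZMod 3)) (b := 1) three_arith.1
  haveI : IsSimpleGroup (Cfsg.PSU 4 Nine 3) :=
    CfsgLib.Classical.psu_isSimple (q := 3) (card_nine.trans (by norm_num)) (by norm_num : 3 ≤ 4) (by norm_num)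
  exact ⟨⟨f⟩, f.isSimpleGroup⟩

/-- The derived group of a six-dimensional projective reflection group is `PSU₄(3)`. -/
theorem refl_six_iso {K : Type*} [Group K]
    (e : K ≃* Cfsg.reflectionSubgroup (⇑(sumSq 6)) (1 : ZMod 3) ⧸
      Subgroup.center (Cfsg.reflectionSubgroup (⇑(sumSq 6)) (1 : ZMod 3)))
    (hcent : ∀ x : K, (∀ y ∈ commutator K, Commute x y) → x = 1) (hne : ∃ x : K, x ≠ 1) :
    Nonempty (↥(commutator K) ≃* Cfsg.PSU 4 Nine 3) ∧ IsSimpleGroup ↥(commutator K) := by
  have h2 : (2 : ZMod 3) ≠ 0 := by decide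
  haveI : Fact (Nat.Prime 3) := ⟨Nat.prime_three⟩
  set qf := qMinus
  set O := Cfsg.isometryGroup (ZMod 3) qf
  set R := Cfsg.reflectionSubgroup (⇑(sumSq 6)) (1 : ZMod 3)
  have hd' : (CfsgLib.Classical.polarGram (CfsgLib.Classical.minusQ 2 (ZMod 3) 0 1)).det = 4 := by
    rw [CfsgLib.FormCl.det_minus]; norm_num
  have hd : (CfsgLib.Classical.polarGram (sumSq 6)).det = (2 : ZMod 3) ^ 6 := gram_det
  have hcong := (CfsgLib.FormCl.cong_of_sq h2 (k := 5) (CfsgLib.Classical.polarGram (sumSq 6))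
    (CfsgLib.Classical.polarGram (CfsgLib.Classical.minusQ 2 (ZMod 3) 0 1)) (by simp)
    (CfsgLib.FormCl.polarGram_symm _) (CfsgLib.FormCl.polarGram_symm _) (by rw [hd]; exact three_arith.2.1) (by rw [hd']; exact three_arith.2.2.1)
    (by rw [hd, hd']; exact ⟨1, three_arith.2.2.2⟩)).symm
  obtain ⟨φ, hφ, -, -⟩ := hcong.exists_equiv
  have hmem : ∀ g, φ g ∈ Cfsg.isometryGroup (ZMod 3) (⇑(sumSq 6)) ↔ g ∈ O := fun g => by
    rw [CfsgLib.FormCl.isometry_eq h2, ← CfsgLib.FormCl.mult_one_iff, hφ, CfsgLib.FormCl.mult_one_iff,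
      ← CfsgLib.FormCl.isometry_eq h2, CfsgLib.Classical.minusQ_coe]
  let ψ : O →* ↥(Cfsg.isometryGroup (ZMod 3) (⇑(sumSq 6))) :=
    MonoidHom.mk' (fun g => ⟨φ g.1, (hmem _).2 g.2⟩) fun x y => Subtype.ext (map_mul φ x.1 y.1)
  have hψs : Function.Surjective ψ := fun y => ⟨⟨φ.symm y.1, (hmem _).1 (by rw [φ.apply_symm_apply]; exact y.2)⟩,
    Subtype.ext (φ.apply_symm_apply _)⟩
  have hψ : Function.Injective ψ := fun x y r => Subtype.ext (φ.injective (congrArg Subtype.val r))
  have himg : ∀ x ∈ Cfsg.Omega (ZMod 3) qf, ψ x ∈ R := fun x hx =>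
    commutator_le_refl (by norm_num) one_ne_zero nondeg (by
      have h1 : ψ x ∈ (commutator O).map ψ := ⟨x, hx, rfl⟩
      rw [commutator_def, Subgroup.map_commutator] at h1
      exact Subgroup.commutator_mono le_top le_top h1)
  let f : ↥(Cfsg.Omega (ZMod 3) qf) →* ↥R :=
    MonoidHom.mk' (fun x => ⟨ψ x.1, himg x.1 x.2⟩) fun x y => Subtype.ext (map_mul ψ x.1 y.1)
  let F : ↥(Cfsg.Omega (ZMod 3) qf) →* K := e.symm.toMonoidHom.comp ((QuotientGroup.mk' (Subgroup.center ↥R)).comp f)
  have hK : commutator K ≤ F.range := by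
    have hR : commutator ↥R ≤ f.range := by
      intro r hr
      have h1 : (r : ↥(Cfsg.isometryGroup (ZMod 3) (⇑(sumSq 6)))) ∈ (commutator ↥R).map R.subtype := ⟨r, hr, rfl⟩
      have h2 : (commutator ↥R).map R.subtype ≤ (commutator O).map ψ := by
        rw [commutator_def, commutator_def, Subgroup.map_commutator, Subgroup.map_commutator]
        exact Subgroup.commutator_mono ((le_top).trans_eq (Subgroup.map_top_of_surjective ψ hψs).symm)
          ((le_top).trans_eq (Subgroup.map_top_of_surjective ψ hψs).symm)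
      obtain ⟨x, hx, hxr⟩ := h2 h1
      exact ⟨⟨x, hx⟩, Subtype.ext hxr⟩
    have hsurj : Function.Surjective (e.symm.toMonoidHom.comp (QuotientGroup.mk' (Subgroup.center ↥R))) :=
      e.symm.surjective.comp (QuotientGroup.mk'_surjective _)
    have h := Subgroup.map_mono (f := e.symm.toMonoidHom.comp (QuotientGroup.mk' (Subgroup.center ↥R))) hR
    rw [map_commutator_eq, MonoidHom.range_eq_top.2 hsurj, ← commutator_def] at h
    exact h.trans_eq (MonoidHom.map_range _ f)
  have hker : F.ker = Subgroup.center ↥(Cfsg.Omega (ZMod 3) qf) := by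
    ext x
    constructor
    · intro hx
      have hx' : f x ∈ Subgroup.center ↥R := by
        have : QuotientGroup.mk' (Subgroup.center ↥R) (f x) = 1 := e.symm.injective (by rw [map_one]; exact hx)
        exact (QuotientGroup.eq_one_iff _).1 this
      exact Subgroup.mem_center_iff.2 fun y => Subtype.ext (hψ (by
        have := congrArg Subtype.val (Subgroup.mem_center_iff.1 hx' (f y))
        simpa [f] using this))
    · intro hx
      refine hcent _ fun y hy => ?_
      obtain ⟨z, rfl⟩ := hK hy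
      show F x * F z = F z * F x
      rw [← map_mul, ← map_mul, ← Subgroup.mem_center_iff.1 hx z]
  obtain ⟨⟨iso⟩, hsimp⟩ := minus_facts
  let g : Cfsg.POmega (ZMod 3) qf ≃* ↥F.range :=
    (QuotientGroup.quotientMulEquivOfEq hker.symm).trans (QuotientGroup.quotientKerEquivRange F)
  haveI : IsSimpleGroup (Cfsg.POmega (ZMod 3) qf) := hsimp
  haveI : IsSimpleGroup ↥F.range := g.symm.isSimpleGroup
  have hn : ((commutator K).subgroupOf F.range).Normal :=
    ⟨fun n hn k => Subgroup.mem_subgroupOf.2 ((inferInstance : (commutator K).Normal).conj_mem _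
      (Subgroup.mem_subgroupOf.1 hn) _)⟩
  have heq : commutator K = F.range := by
    rcases IsSimpleGroup.eq_bot_or_eq_top_of_normal _ hn with h | h
    · exfalso
      obtain ⟨x, hx⟩ := hne
      refine hx (hcent x fun y hy => ?_)
      have : (⟨y, hK hy⟩ : ↥F.range) ∈ (commutator K).subgroupOf F.range := Subgroup.mem_subgroupOf.2 hy
      rw [h, Subgroup.mem_bot] at this
      rw [show y = 1 from congrArg Subtype.val this]
      exact Commute.one_right x
    · exact le_antisymm hK (Subgroup.subgroupOf_eq_top.1 h)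
  exact ⟨⟨((MulEquiv.subgroupCongr heq).trans g.symm).trans iso⟩,
    (MulEquiv.subgroupCongr heq).isSimpleGroup⟩

end CfsgLib.Spor.Fi24Four
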