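/-
The group induced on the tetrads is a six-dimensional projective reflection group.
-/
import Cfsg.Agent.Lib.Spor.Fi24Four.Extra
import Cfsg.Agent.Lib.Spor.Fi24Four.Omega
import Cfsg.Agent.Lib.Spor.Fi24Four.Data.Codes
import Cfsg.Agent.Lib.Spor.FischerTypes.ReflTables
import Cfsg.Agent.Lib.Spor.Fi24Class.He

set_option autoImplicit false

namespace CfsgLib.Spor.Fi24Four

open CfsgLib.Spor.TC CfsgLib.Spor.Fi24 CfsgLib.Spor.Fi24Class CfsgLib.Spor.Fi24Seven
open CfsgLib.Spor.FischerTypes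

set_option maxRecDepth 100000

/-- The group generated by the reflections. -/
noncomputable def Wg : Subgroup (Equiv.Perm (Fin 126)) := Subgroup.closure (Set.range Rp)

/-- The images under the action of conjugation. -/
theorem psi_Rp (g : ↥Cz) (t : Fin 126) : psi g * Rp t * (psi g)⁻¹ = Rp (psi g t) := by
  obtain ⟨hr, he⟩ := repT_spec t.2
  have ht : (⟨tid (repT t), tid_lt hr⟩ : Fin 126) = t := Fin.ext he
  have hi := img_lt (g : X₀) (repT t)
  have e : (⟨tid (img (g : X₀) (repT t)), tid_lt hi⟩ : Fin 126) = psi g t := Fin.ext rfl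
  rw [← e, ← psi_tt _ hi hi]
  conv_lhs => rw [← ht, ← psi_tt _ hr hr]
  rw [← map_mul, ← map_inv, ← map_mul]
  exact congrArg psi (Subtype.ext (tt_conj (img_spec g.2 hr)).symm)

theorem map_Hs : (Hs.subgroupOf Cz).map psi = Wg := by
  refine le_antisymm ?_ ?_
  · rintro _ ⟨⟨x, hxC⟩, hx, rfl⟩
    have hx' : x ∈ Hs := hx
    clear hx
    revert hxC
    induction hx' using Subgroup.closure_induction with
    | mem y hy =>
      obtain ⟨i, hi, rfl⟩ := hy
      intro _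
      rw [show psi ⟨tt i, _⟩ = Rp ⟨tid i, tid_lt hi⟩ from psi_tt i hi hi]
      exact Subgroup.subset_closure ⟨_, rfl⟩
    | one => intro _; rw [show psi ⟨1, _⟩ = 1 from map_one psi]; exact one_mem _
    | mul a b ha hb iha ihb =>
      intro _
      rw [show psi ⟨a * b, _⟩ = psi ⟨a, Hs_le ha⟩ * psi ⟨b, Hs_le hb⟩ from map_mul psi ⟨a, Hs_le ha⟩ ⟨b, Hs_le hb⟩]
      exact mul_mem (iha _) (ihb _)
    | inv a ha iha =>
      intro _
      rw [show psi ⟨a⁻¹, _⟩ = (psi ⟨a, Hs_le ha⟩)⁻¹ from map_inv psi ⟨a, Hs_le ha⟩]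
      exact inv_mem (iha _)
  · rw [Wg, Subgroup.closure_le]
    rintro _ ⟨t, rfl⟩
    obtain ⟨hr, he⟩ := repT_spec t.2
    refine ⟨tc _ hr, tt_Hs hr, ?_⟩
    rw [psi_tt _ hr hr]
    exact congrArg Rp (Fin.ext he)

theorem wg_conj {g : Equiv.Perm (Fin 126)} (hg : g ∈ Wg) (t : Fin 126) : g * Rp t * g⁻¹ = Rp (g t) := by
  rw [← map_Hs] at hg
  obtain ⟨x, -, rfl⟩ := hg
  exact psi_Rp x t

theorem Rp_sq (t : Fin 126) : Rp t * Rp t = 1 := Equiv.ext fun x => Fin.ext (Rf_spec t.2 x.2).2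

theorem Rp_inv (t : Fin 126) : (Rp t)⁻¹ = Rp t := inv_eq_of_mul_eq_one_right (Rp_sq t)

/-- A reflection in the group. -/
noncomputable def rw' (t : Fin 126) : ↥Wg := RackQuot.inClosure Rp t

noncomputable def treeTwoOK : Bool :=
  Nat.beq Data.twoO.length 126 && allB 126 (fun n =>
    Nat.blt (Data.twoO.getD n 0) 126 && (Nat.beq n 0 && Nat.beq (Data.twoO.getD n 0) 0 ||
      (Nat.blt (Data.twoP.getD n (0, 0, 0)).1 126 && Nat.blt (Data.twoP.getD n (0, 0, 0)).2.1 126 &&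
        Nat.blt (Data.twoP.getD n (0, 0, 0)).2.2 n &&
        Nat.beq (Rf (Data.twoP.getD n (0, 0, 0)).1
          (Rf (Data.twoP.getD n (0, 0, 0)).2.1 (Data.twoO.getD (Data.twoP.getD n (0, 0, 0)).2.2 0)))
          (Data.twoO.getD n 0)))) &&
    allB 126 (fun t => memb Data.twoO t) &&
    allB 126 (fun t => Nat.beq t 0 || !(Nat.beq (Rf 0 (Rf 1 t)) t) || !(Nat.beq (Rf 2 (Rf 54 t)) t)) &&
    Nat.beq (Rf 0 (Rf 1 0)) 0 && Nat.beq (Rf 2 (Rf 54 0)) 0

theorem tree_two_ok : treeTwoOK = true := by decide +kernel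

/-- The tetrad zero. -/
def t0 : Fin 126 := ⟨0, by norm_num⟩

/-- The tree of products of two reflections reaches all tetrads. -/
theorem reach_two {p : Fin 126 → Prop} (h0 : p t0) (hs : ∀ a b x, p x → p (Rp a (Rp b x))) : ∀ t, p t := by
  have h := tree_two_ok
  simp only [treeTwoOK, Bool.and_eq_true] at h
  obtain ⟨⟨⟨⟨⟨hlen, htree⟩, hall⟩, -⟩, -⟩, -⟩ := h
  have key : ∀ n, n < 126 → ∀ ht : Data.twoO.getD n 0 < 126, p ⟨_, ht⟩ := by
    intro n
    induction n using Nat.strong_induction_on with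
    | _ n ih =>
      intro hn ht
      have h1 := allB_spec htree n hn
      simp only [Bool.or_eq_true, Bool.and_eq_true, Nat.blt_eq] at h1
      rcases h1.2 with ⟨-, e⟩ | ⟨⟨⟨ha, hb⟩, hc⟩, e⟩
      · rwa [show (⟨_, ht⟩ : Fin 126) = t0 from Fin.ext (Nat.eq_of_beq_eq_true e)]
      · have hx := allB_spec htree _ (hc.trans hn)
        simp only [Bool.and_eq_true, Nat.blt_eq] at hx
        have := hs ⟨_, ha⟩ ⟨_, hb⟩ _ (ih _ hc (hc.trans hn) hx.1)
        convert this using 1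
        exact Fin.ext (Nat.eq_of_beq_eq_true e).symm
  intro t
  obtain ⟨n, hn, e⟩ := List.getElem_of_mem (mem_of_memb (allB_spec hall t t.2))
  have hn' : n < 126 := by rwa [Nat.eq_of_beq_eq_true hlen] at hn
  have e' : Data.twoO.getD n 0 = (t : ℕ) := by rw [List.getD_eq_getElem _ _ hn, e]
  have := key n hn' (e' ▸ t.2)
  rwa [show (⟨Data.twoO.getD n 0, e' ▸ t.2⟩ : Fin 126) = t from Fin.ext e'] at this

theorem rw'_conj_zero (t : Fin 126) : ∃ u : ↥Wg, rw' t = u * rw' t0 * u⁻¹ := by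
  refine reach_two (p := fun t => ∃ u : ↥Wg, rw' t = u * rw' t0 * u⁻¹) ⟨1, by simp⟩ ?_ t
  rintro a b x ⟨u, hu⟩
  refine ⟨rw' a * rw' b * u, Subtype.ext ?_⟩
  have h1 : (u : Equiv.Perm (Fin 126)) * Rp t0 * (u : Equiv.Perm (Fin 126))⁻¹ = Rp x :=
    (congrArg Subtype.val hu).symm
  show Rp (Rp a (Rp b x)) = Rp a * Rp b * u * Rp t0 * (Rp a * Rp b * u : Equiv.Perm (Fin 126))⁻¹
  have ha : Rp a * Rp (Rp b x) * (Rp a)⁻¹ = Rp (Rp a (Rp b x)) := wg_conj (rw' a).2 (Rp b x)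
  have hb : Rp b * Rp x * (Rp b)⁻¹ = Rp (Rp b x) := wg_conj (rw' b).2 x
  rw [← ha, ← hb, ← h1]
  group

theorem two_mem (a b : Fin 126) : rw' a * rw' b ∈ commutator ↥Wg := by
  have h : ∀ t, rw' t * rw' t0 ∈ commutator ↥Wg := fun t => by
    obtain ⟨u, hu⟩ := rw'_conj_zero t
    have hinv : (rw' t0)⁻¹ = rw' t0 := Subtype.ext (Rp_inv t0)
    have h1 := Subgroup.commutator_mem_commutator (H₁ := ⊤) (H₂ := ⊤) (Subgroup.mem_top u) (Subgroup.mem_top (rw' t0))
    rw [commutatorElement_def, hinv] at h1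
    rw [hu, commutator_def]
    exact h1
  have := mul_mem (h a) (inv_mem (h b))
  rwa [mul_inv_rev, show (rw' b)⁻¹ = rw' b from Subtype.ext (Rp_inv b), mul_assoc, mul_inv_cancel_left] at this

/-- A permutation respecting the reflections and commuting with the derived group is trivial. -/
theorem eq_one_of_commute {g : Equiv.Perm (Fin 126)}
    (hc : ∀ y ∈ commutator ↥Wg, g * (y : Equiv.Perm (Fin 126)) = (y : Equiv.Perm (Fin 126)) * g) : g = 1 := by
  have h := tree_two_ok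
  simp only [treeTwoOK, Bool.and_eq_true] at h
  obtain ⟨⟨⟨-, hfix⟩, h01⟩, h254⟩ := h
  have hm : ∀ a b x, g (Rp a (Rp b x)) = Rp a (Rp b (g x)) := fun a b x => by
    exact Equiv.congr_fun (hc _ (two_mem a b)) x
  have h0 : g t0 = t0 := by
    have e1 : g (Rp ⟨0, by norm_num⟩ (Rp ⟨1, by norm_num⟩ t0)) = g t0 :=
      congrArg g (Fin.ext (Nat.eq_of_beq_eq_true h01))
    have e2 : g (Rp ⟨2, by norm_num⟩ (Rp ⟨54, by norm_num⟩ t0)) = g t0 :=
      congrArg g (Fin.ext (Nat.eq_of_beq_eq_true h254))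
    rw [hm] at e1 e2
    have h1 := allB_spec hfix (g t0) (g t0).2
    simp only [Bool.or_eq_true, Bool.not_eq_true'] at h1
    rcases h1 with (h1 | h1) | h1
    · exact Fin.ext (Nat.eq_of_beq_eq_true h1)
    · exact absurd (congrArg Fin.val e1) (Nat.ne_of_beq_eq_false h1)
    · exact absurd (congrArg Fin.val e2) (Nat.ne_of_beq_eq_false h1)
  refine Equiv.ext fun t => ?_
  exact reach_two (p := fun t => g t = t) h0 (fun a b x hx => by rw [hm, hx]) t

theorem wg_cent (x : ↥Wg) (hc : ∀ y ∈ commutator ↥Wg, Commute x y) : x = 1 :=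
  Subtype.ext (eq_one_of_commute fun y hy => congrArg Subtype.val (hc y hy).eq)

theorem wg_center : Subgroup.center ↥Wg = ⊥ := by
  rw [Subgroup.eq_bot_iff_forall]
  exact fun x hx => wg_cent x fun y _ => (Subgroup.mem_center_iff.1 hx y).symm

/-- A generating tetrad. -/
def gs (k : Fin 7) : Fin 126 := ⟨tid (Le k) % 126, Nat.mod_lt _ (by norm_num)⟩

theorem gs_val (k : Fin 7) : (gs k : ℕ) = tid (Le k) := Nat.mod_eq_of_lt (tid_lt (Le_lt k.2))

theorem reach_tet (p : Fin 126 → Prop) (h0 : ∀ k, p (gs k)) (hs : ∀ k i, p i → p (Rp (gs k) i)) : ∀ i, p i := by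
  intro t
  have key : ∀ i < 504, p ⟨tid i % 126, Nat.mod_lt _ (by norm_num)⟩ := by
    refine reach (fun k hk => h0 ⟨k, hk⟩) fun k hk j hj hp => ?_
    have := hs ⟨k, hk⟩ _ hp
    convert this using 1
    refine Fin.ext ?_
    rw [Rp_apply, gs_val]
    show tid (gg (LR k) j) % 126 = Rf (tid (Le k)) (tid j % 126)
    rw [Nat.mod_eq_of_lt (tid_lt hj), (let_tid hk hj).1,
      Nat.mod_eq_of_lt (Rf_spec (tid_lt (Le_lt hk)) (tid_lt hj)).1]
  obtain ⟨hr, he⟩ := repT_spec t.2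
  have := key _ hr
  convert this using 1
  refine Fin.ext ?_
  show (t : ℕ) = tid (repT t) % 126
  rw [he, Nat.mod_eq_of_lt t.2]

theorem code_ok : allB 126 (fun i => codeOK 6 Data.codeT 126 i) = true := by decide +kernel

theorem cover_ok : allB (3 ^ 6) (fun c => coverOK 6 Data.codeT 126 c) = true := by decide +kernel

/-- The reflection step agrees. -/
noncomputable def stepRefl (k i : ℕ) : Bool :=
  decide (reflVec (vecOf 6 (cN Data.codeT (tid (Le k)))) (vecOf 6 (cN Data.codeT i)) =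
      vecOf 6 (cN Data.codeT (Rf (tid (Le k)) i))) ||
    decide (reflVec (vecOf 6 (cN Data.codeT (tid (Le k)))) (vecOf 6 (cN Data.codeT i)) =
      -vecOf 6 (cN Data.codeT (Rf (tid (Le k)) i)))

theorem step_ok : allB 7 (fun k => allB 126 fun i => stepRefl k i) = true := by decide +kernel

theorem codes : ∀ i, i < 126 → codeOK 6 Data.codeT 126 i = true := allB_spec code_ok

theorem refl_conj (k : Fin 7) (i : Fin 126) :
    reflFam codes (gs k) * reflFam codes i * (reflFam codes (gs k))⁻¹ = reflFam codes (Rp (gs k) i) := by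
  have h := allB_spec (allB_spec step_ok k k.2) i i.2
  simp only [stepRefl, Bool.or_eq_true] at h
  have hv := dot_code codes (gs k)
  have hw := dot_code codes i
  have hu : dot (reflVec (vecOf 6 (cN Data.codeT (gs k))) (vecOf 6 (cN Data.codeT i)))
      (reflVec (vecOf 6 (cN Data.codeT (gs k))) (vecOf 6 (cN Data.codeT i))) = 1 := by rw [dot_reflVec _ _ _ hv, hw]
  refine (refl1_conj _ _ hv hw hu).trans ?_
  have key : ∀ u w : Fin 6 → ZMod 3, ∀ (hu : dot u u = 1) (hw : dot w w = 1), (u = w ∨ u = -w) → refl1 u hu = refl1 w hw := by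
    rintro u w hu hw (rfl | rfl)
    · rfl
    · exact refl1_neg w hw hu
  refine key _ _ _ _ ?_
  rw [Rp_apply, gs_val]
  exact h.imp of_decide_eq_true of_decide_eq_true

/-- The derived group is `PSU₄(3)` and simple. -/
theorem derived_iso : Nonempty (↥(commutator ↥Wg) ≃* Cfsg.PSU 4 Nine 3) ∧ IsSimpleGroup ↥(commutator ↥Wg) := by
  obtain ⟨e, -⟩ := RackQuot.closure_quotient_equiv Rp (reflFam codes) Rp_inj (reflFam_inj codes) gs
    (fun k i => Rp (gs k) i) reach_tet (fun k i => wg_conj (rw' (gs k)).2 i) refl_conj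
  have hcl : Subgroup.closure (Set.range (reflFam codes)) = Cfsg.reflectionSubgroup (⇑(sumSq 6)) 1 := by
    rw [range_reflFam codes (allB_spec cover_ok)]; rfl
  refine refl_six_iso (K := ↥Wg) ?_ wg_cent ⟨rw' t0, fun h => ?_⟩
  · exact ((QuotientGroup.quotientMulEquivOfEq wg_center).trans QuotientGroup.quotientBot).symm.trans
      (e.trans (quotCenterCongr (MulEquiv.subgroupCongr hcl)))
  · have h1 : Rp t0 = 1 := congrArg Subtype.val h
    exact absurd (congrArg Fin.val (Equiv.congr_fun h1 ⟨16, by norm_num⟩))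
      (show Rf 0 16 ≠ 16 by decide +kernel)

theorem trp_not_mem (p : Fin nPts) : trp p ∉ M₀ := fun h =>
  zee_not_mem (by simpa [trp, mul_assoc] using ((inferInstance : M₀.Normal).conj_mem _ h ((rep p)⁻¹)))

theorem tt_tt_mem (i j : ℕ) : tt i * tt j ∈ M₀ :=
  (Subgroup.mul_mem_iff_of_index_two index_M).2 (iff_of_false (trp_not_mem _) (trp_not_mem _))

/-- Even products of transpositions act by the derived group. -/
theorem psi_even {x : X₀} (hx : x ∈ Hs) :
    ∃ y : ↥Wg, (y : Equiv.Perm (Fin 126)) = psi ⟨x, Hs_le hx⟩ ∧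
      (x ∈ M₀ → y ∈ commutator ↥Wg) ∧ (x ∉ M₀ → y * rw' t0 ∈ commutator ↥Wg) := by
  have hinv : (rw' t0)⁻¹ = rw' t0 := Subtype.ext (Rp_inv t0)
  haveI hn : (commutator ↥Wg).Normal := inferInstance
  induction hx using Subgroup.closure_induction with
  | mem y hy =>
    obtain ⟨i, hi, rfl⟩ := hy
    exact ⟨rw' ⟨tid i, tid_lt hi⟩, (psi_tt i hi hi).symm, fun h => absurd h (trp_not_mem _), fun _ => two_mem _ _⟩
  | one => exact ⟨1, (map_one psi).symm, fun _ => one_mem _, fun h => absurd (one_mem _) h⟩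
  | mul a b ha hb iha ihb =>
    obtain ⟨y, hy, hy1, hy2⟩ := iha
    obtain ⟨z, hz, hz1, hz2⟩ := ihb
    have he : ((y * z : ↥Wg) : Equiv.Perm (Fin 126)) = psi ⟨a * b, Hs_le (mul_mem ha hb)⟩ := by
      rw [Subgroup.coe_mul, hy, hz]; exact (map_mul psi ⟨a, Hs_le ha⟩ ⟨b, Hs_le hb⟩).symm
    refine ⟨y * z, he, fun h => ?_, fun h => ?_⟩
    all_goals rw [Subgroup.mul_mem_iff_of_index_two index_M] at h
    · by_cases ha' : a ∈ M₀
      · exact mul_mem (hy1 ha') (hz1 (h.1 ha'))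
      · have h1 := mul_mem (hy2 ha') (hn.conj_mem _ (hz2 (mt h.2 ha')) (rw' t0))
        rwa [show y * rw' t0 * (rw' t0 * (z * rw' t0) * (rw' t0)⁻¹) = y * (rw' t0 * rw' t0) * z by
          rw [hinv]; nth_rewrite 4 [← hinv]; group, show rw' t0 * rw' t0 = 1 from Subtype.ext (Rp_sq t0),
          mul_one] at h1
    · by_cases ha' : a ∈ M₀
      · have hb' : b ∉ M₀ := fun hb' => h (iff_of_true ha' hb')
        rw [mul_assoc]
        exact mul_mem (hy1 ha') (hz2 hb')
      · have hb' : b ∈ M₀ := by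
          by_contra hb'
          exact h (iff_of_false ha' hb')
        have h1 := mul_mem (hy2 ha') (hn.conj_mem _ (hz1 hb') (rw' t0))
        rwa [show y * rw' t0 * (rw' t0 * z * (rw' t0)⁻¹) = y * (rw' t0 * rw' t0) * z * (rw' t0)⁻¹ by group,
          show rw' t0 * rw' t0 = 1 from Subtype.ext (Rp_sq t0), mul_one, hinv] at h1
  | inv a ha iha =>
    obtain ⟨y, hy, hy1, hy2⟩ := iha
    have he : ((y⁻¹ : ↥Wg) : Equiv.Perm (Fin 126)) = psi ⟨a⁻¹, Hs_le (inv_mem ha)⟩ := by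
      rw [Subgroup.coe_inv, hy]; exact (map_inv psi ⟨a, Hs_le ha⟩).symm
    refine ⟨y⁻¹, he, fun h => inv_mem (hy1 (inv_mem_iff.1 h)), fun h => ?_⟩
    have h1 := hn.conj_mem _ (inv_mem (hy2 fun r => h (inv_mem r))) (rw' t0)
    rwa [show rw' t0 * (y * rw' t0)⁻¹ * (rw' t0)⁻¹ = (rw' t0 * (rw' t0)⁻¹) * y⁻¹ * (rw' t0)⁻¹ by group,
      mul_inv_cancel, one_mul, hinv] at h1

end CfsgLib.Spor.Fi24Four
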