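/-
The structure of the centralizer of a product of four transpositions in the commutator subgroup.
-/
import Cfsg.Agent.Lib.Spor.Fi24Four.Quot
import Cfsg.Agent.Lib.Spor.CoTwoInv.Transfer
import Cfsg.Agent.Lib.Invol.PConstrained
import Cfsg.Agent.Lib.Coprime.Fitting

set_option autoImplicit false

namespace CfsgLib.Spor.Fi24Four

open CfsgLib.Spor.TC CfsgLib.Spor.Fi24 CfsgLib.Spor.Fi24Class CfsgLib.Spor.Fi24Seven
open CfsgLib.Spor.PairAut (span Gens)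
open scoped commutatorElement

set_option maxRecDepth 100000

instance : Finite X₀ := finite_X

/-- The centralizer in the commutator subgroup. -/
noncomputable abbrev C0 : Subgroup X₀ := M₀ ⊓ Cz

/-- The even part of the subgroup of transpositions. -/
noncomputable def Ms : Subgroup X₀ := Hs ⊓ M₀

theorem hh_M : hh ∈ M₀ := el_even 2 _ rfl (by decide)

theorem z0_M : z0 ∈ M₀ := el_even 2 _ rfl zW_lt

theorem list_M : ∀ l : List ℕ, (l.map fun k => tt (Le k)).prod ∈ M₀ ↔ Even l.length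
  | [] => by simp
  | k :: l => by
    rw [List.map_cons, List.prod_cons, Subgroup.mul_mem_iff_of_index_two index_M, list_M l, List.length_cons,
      Nat.even_add_one]
    simp [tt, trp_not_mem]

theorem Ns_le_Ms : Ns ≤ Ms := by
  refine le_inf Ns_le_Hs (sup_le ?_ (Subgroup.zpowers_le.2 ?_))
  · rw [Qs, span, Subgroup.closure_le]
    refine Set.insert_subset z0_M ?_
    rintro _ ⟨i, rfl⟩
    exact tt_tt_mem _ _
  · rw [w3, list_M]
    decide +kernel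

theorem Ms_le : Ms ≤ C0 := fun _ hx => ⟨hx.2, Hs_le hx.1⟩

theorem Qs_le_Ns : Qs ≤ Ns := le_sup_left

theorem Qs_le_C0 : Qs ≤ C0 := Qs_le_Ns.trans (Ns_le_Ms.trans Ms_le)

theorem Ns_normal {g x : X₀} (hg : g ∈ Cz) (hx : x ∈ Ns) : g * x * g⁻¹ ∈ Ns := by
  rw [← Ks_eq] at hx ⊢
  rw [Ks, Subgroup.mem_map] at hx ⊢
  obtain ⟨y, hy, rfl⟩ := hx
  refine ⟨(⟨g, hg⟩ : ↥Cz) * y * (⟨g, hg⟩ : ↥Cz)⁻¹, ?_, ?_⟩
  · rw [MonoidHom.mem_ker] at hy ⊢
    rw [map_mul, map_mul, hy, mul_one, map_inv, mul_inv_cancel]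
  · simp only [map_mul, map_inv, Subgroup.coe_subtype]

theorem Ms_normal {g x : X₀} (hg : g ∈ Cz) (hx : x ∈ Ms) : g * x * g⁻¹ ∈ Ms :=
  ⟨conj_Hs hg hx.1, (inferInstance : M₀.Normal).conj_mem _ hx.2 g⟩

instance qN : (Qs.subgroupOf C0).Normal :=
  ⟨fun _ hq x => Subgroup.mem_subgroupOf.2 (Qs_normal x.2.2 (Subgroup.mem_subgroupOf.1 hq))⟩

instance nN : (Ns.subgroupOf C0).Normal :=
  ⟨fun _ hq x => Subgroup.mem_subgroupOf.2 (Ns_normal x.2.2 (Subgroup.mem_subgroupOf.1 hq))⟩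

instance mN : (Ms.subgroupOf C0).Normal :=
  ⟨fun _ hq x => Subgroup.mem_subgroupOf.2 (Ms_normal x.2.2 (Subgroup.mem_subgroupOf.1 hq))⟩

theorem index_Ms : (Ms.subgroupOf C0).index = 2 := by
  rw [Subgroup.index_eq_two_iff]
  refine ⟨⟨hh, hh_M, hh_mem⟩, fun b => ?_⟩
  have h2 : ((b : X₀) * hh ∈ M₀) := mul_mem b.2.1 hh_M
  simp only [Xor', Subgroup.mem_subgroupOf, Ms, Subgroup.mem_inf, Subgroup.coe_mul]
  rcases cz_cases b.2.2 with h | h
  · exact Or.inr ⟨⟨h, b.2.1⟩, fun r => hh_not_Hs (by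
      have := mul_mem (inv_mem h) r.1
      rwa [inv_mul_cancel_left] at this)⟩
  · exact Or.inl ⟨⟨h, h2⟩, fun r => hh_not_Hs (by
      have := mul_mem (inv_mem r.1) h
      rwa [inv_mul_cancel_left] at this)⟩

/-- The action of the even part. -/
noncomputable def phi : ↥(Ms.subgroupOf C0) →* ↥Wg :=
  MonoidHom.codRestrict
    (psi.comp (MonoidHom.mk' (fun x : ↥(Ms.subgroupOf C0) => (⟨(x : ↥C0), x.1.2.2⟩ : ↥Cz)) fun _ _ => rfl)) Wg
    fun x => by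
      rw [← map_Hs]
      exact ⟨_, (Subgroup.mem_subgroupOf.1 x.2).1, rfl⟩

theorem phi_range : phi.range = commutator ↥Wg := by
  refine le_antisymm ?_ ?_
  · rintro _ ⟨x, rfl⟩
    have hm := Subgroup.mem_subgroupOf.1 x.2
    obtain ⟨y, hy, hy1, -⟩ := psi_even hm.1
    rw [show phi x = y from Subtype.ext hy.symm]
    exact hy1 hm.2
  · rw [commutator_def, Subgroup.commutator_le]
    intro a _ b _
    have ha := (SetLike.ext_iff.1 map_Hs _).2 a.2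
    have hb := (SetLike.ext_iff.1 map_Hs _).2 b.2
    obtain ⟨x, hx, hxa⟩ := ha
    obtain ⟨y, hy, hyb⟩ := hb
    have hM : ⁅(x : X₀), (y : X₀)⁆ ∈ Ms := by
      rw [Ms]
      refine Subgroup.mem_inf.2 ⟨?_, Subgroup.commutator_mem_commutator (Subgroup.mem_top _) (Subgroup.mem_top _)⟩
      rw [commutatorElement_def]
      have hx' : (x : X₀) ∈ Hs := hx
      have hy' : (y : X₀) ∈ Hs := hy
      exact mul_mem (mul_mem (mul_mem hx' hy') (inv_mem hx')) (inv_mem hy')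
    refine ⟨⟨⟨_, Ms_le hM⟩, hM⟩, Subtype.ext ?_⟩
    show psi ⟨⁅(x : X₀), (y : X₀)⁆, _⟩ = (⁅a, b⁆ : ↥Wg).1
    rw [show (⟨⁅(x : X₀), (y : X₀)⁆, _⟩ : ↥Cz) = ⁅x, y⁆ from rfl, map_commutatorElement, hxa, hyb]
    rfl

theorem phi_ker : phi.ker = (Ns.subgroupOf C0).subgroupOf (Ms.subgroupOf C0) := by
  ext x
  rw [MonoidHom.mem_ker, Subgroup.mem_subgroupOf, Subgroup.mem_subgroupOf, ← Ks_eq]
  constructor
  · intro h
    exact ⟨_, congrArg Subtype.val h, rfl⟩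
  · rintro ⟨y, hy, e⟩
    refine Subtype.ext ?_
    show psi ⟨(x : ↥C0), _⟩ = 1
    rw [show (⟨((x : ↥C0) : X₀), x.1.2.2⟩ : ↥Cz) = y from Subtype.ext e.symm]
    exact hy

theorem card_Qs' : Nat.card (Qs.subgroupOf C0) = 2 ^ 13 :=
  (Nat.card_congr (Subgroup.subgroupOfEquivOfLe Qs_le_C0).toEquiv).trans Qs_card

theorem card_Ns' : Nat.card (Ns.subgroupOf C0) = 3 * 2 ^ 13 :=
  (Nat.card_congr (Subgroup.subgroupOfEquivOfLe (Ns_le_Ms.trans Ms_le)).toEquiv).trans (Ns_card.trans (by rw [Qs_card]))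

theorem core_le : Cfsg.pCore 2 ↥C0 ≤ Qs.subgroupOf C0 := by
  haveI : Fact (Nat.Prime 2) := ⟨Nat.prime_two⟩
  set P := Cfsg.pCore 2 ↥C0
  haveI hcn : P.Normal := CfsgLib.Coprime.pCore_normal' (G := ↥C0) 2
  have hP : IsPGroup 2 P := CfsgLib.Coprime.pCore_isPGroup (G := ↥C0) 2
  obtain ⟨-, hsimp⟩ := derived_iso
  have hQP : Qs.subgroupOf C0 ≤ P := CfsgLib.Coprime.le_pCore (IsPGroup.of_card card_Qs')
  -- within the even part
  have hPM : ∀ x ∈ P, x ∈ Ms.subgroupOf C0 → x ∈ Ns.subgroupOf C0 := by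
    intro x hxP hxM
    haveI : IsSimpleGroup ↥phi.range := (MulEquiv.subgroupCongr phi_range).isSimpleGroup
    set I := (P.subgroupOf (Ms.subgroupOf C0)).map phi.rangeRestrict
    have hn : I.Normal :=
      Subgroup.Normal.map (hcn.comap (Ms.subgroupOf C0).subtype) _ phi.rangeRestrict_surjective
    have hI : IsPGroup 2 I := (hP.comap_of_injective _ (Subgroup.subtype_injective _)).map _
    rcases IsSimpleGroup.eq_bot_or_eq_top_of_normal I hn with h | h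
    · have h1 : phi.rangeRestrict ⟨x, hxM⟩ ∈ I := ⟨⟨x, hxM⟩, hxP, rfl⟩
      rw [h, Subgroup.mem_bot] at h1
      have h2 : (⟨x, hxM⟩ : ↥(Ms.subgroupOf C0)) ∈ phi.ker := MonoidHom.mem_ker.2 (congrArg Subtype.val h1)
      rw [phi_ker] at h2
      exact Subgroup.mem_subgroupOf.1 h2
    · exfalso
      rw [h] at hI
      have hG : IsPGroup 2 ↥phi.range := hI.of_equiv Subgroup.topEquiv
      haveI : Nontrivial ↥phi.range := IsSimpleGroup.toNontrivial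
      have hne := hG.center_nontrivial
      obtain ⟨c, hc⟩ := exists_ne (1 : ↥(Subgroup.center ↥phi.range))
      refine hc (Subtype.ext (Subtype.ext ?_))
      refine wg_cent _ fun y hy => ?_
      rw [← phi_range] at hy
      exact congrArg Subtype.val (Subgroup.mem_center_iff.1 c.2 ⟨y, hy⟩).symm
  -- the element of order three is outside
  have key : ∀ hwN : w3 ∈ C0, (⟨w3, hwN⟩ : ↥C0) ∉ P := by
    intro hwN hw
    have hle : Ns.subgroupOf C0 ≤ P := by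
      intro y hy
      obtain ⟨r, hr, f | f | f⟩ := Ns_cases (Subgroup.mem_subgroupOf.1 hy)
      all_goals have hrP : (⟨r, Qs_le_C0 hr⟩ : ↥C0) ∈ P := hQP (Subgroup.mem_subgroupOf.2 hr)
      · rwa [show y = ⟨r, Qs_le_C0 hr⟩ from Subtype.ext f]
      · rw [show y = ⟨r, Qs_le_C0 hr⟩ * ⟨w3, hwN⟩ from Subtype.ext f]
        exact mul_mem hrP hw
      · rw [show y = ⟨r, Qs_le_C0 hr⟩ * (⟨w3, hwN⟩ * ⟨w3, hwN⟩) from Subtype.ext f]
        exact mul_mem hrP (mul_mem hw hw)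
    obtain ⟨n, hn⟩ := hP.exists_card_eq
    have hdvd := Subgroup.card_dvd_of_le hle
    rw [card_Ns', hn] at hdvd
    exact absurd (Nat.prime_three.dvd_of_dvd_pow (dvd_trans (dvd_mul_right 3 _) hdvd)) (by norm_num)
  intro x hx
  have hxM : x ∈ Ms.subgroupOf C0 := by
    by_contra hxM
    refine hxM (Subgroup.mem_subgroupOf.2 (Ns_le_Ms ?_))
    rw [← Ks_eq]
    refine ⟨⟨(x : X₀), x.2.2⟩, MonoidHom.mem_ker.2 (eq_one_of_commute fun v hv => ?_), rfl⟩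
    rw [← phi_range] at hv
    obtain ⟨m, rfl⟩ := hv
    have hc1 : x * (m : ↥C0) * x⁻¹ * (m : ↥C0)⁻¹ ∈ P := by
      rw [show x * (m : ↥C0) * x⁻¹ * (m : ↥C0)⁻¹ = x * ((m : ↥C0) * x⁻¹ * (m : ↥C0)⁻¹) by group]
      exact mul_mem hx (hcn.conj_mem _ (inv_mem hx) _)
    have hc2 : x * (m : ↥C0) * x⁻¹ * (m : ↥C0)⁻¹ ∈ Ms.subgroupOf C0 :=
      mul_mem (mN.conj_mem _ m.2 x) (inv_mem m.2)
    have hN := Subgroup.mem_subgroupOf.1 (hPM _ hc1 hc2)
    rw [← Ks_eq] at hN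
    obtain ⟨y, hy, e⟩ := hN
    have hy' : psi y = 1 := hy
    have e' : y = (⟨(x : X₀), x.2.2⟩ : ↥Cz) * ⟨((m : ↥C0) : X₀), m.1.2.2⟩ * (⟨(x : X₀), x.2.2⟩ : ↥Cz)⁻¹ *
        (⟨((m : ↥C0) : X₀), m.1.2.2⟩ : ↥Cz)⁻¹ := Subtype.ext e
    rw [e', map_mul, map_mul, map_mul, map_inv, map_inv, mul_inv_eq_one, mul_inv_eq_iff_eq_mul] at hy'
    exact hy'
  have hxN := Subgroup.mem_subgroupOf.1 (hPM x hx hxM)
  rw [Subgroup.mem_subgroupOf]
  obtain ⟨q, hq, e | e | e⟩ := Ns_cases hxN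
  · exact e ▸ hq
  all_goals exfalso
  all_goals
    have hwN : w3 ∈ C0 := Ms_le (Ns_le_Ms (Subgroup.mem_sup_right (Subgroup.mem_zpowers _)))
    have hqP : (⟨q, Qs_le_C0 hq⟩ : ↥C0) ∈ P := hQP (Subgroup.mem_subgroupOf.2 hq)
    have h1 := mul_mem (inv_mem hqP) hx
  · refine key hwN ?_
    have e1 : (⟨q, Qs_le_C0 hq⟩ : ↥C0)⁻¹ * x = ⟨w3, hwN⟩ := Subtype.ext (by
      rw [Subgroup.coe_mul, Subgroup.coe_inv, e, inv_mul_cancel_left])
    rwa [e1] at h1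
  · refine key hwN ?_
    have e1 : (⟨q, Qs_le_C0 hq⟩ : ↥C0)⁻¹ * x = ⟨w3, hwN⟩ * ⟨w3, hwN⟩ := Subtype.ext (by
      simp only [Subgroup.coe_mul, Subgroup.coe_inv, e, inv_mul_cancel_left])
    rw [e1] at h1
    have h3 : (⟨w3, hwN⟩ * ⟨w3, hwN⟩ * ⟨w3, hwN⟩ : ↥C0) ∈ P := hQP (Subgroup.mem_subgroupOf.2 w3_cube)
    have h2 := mul_mem (mul_mem h1 h1) (inv_mem h3)
    rwa [show ∀ a : ↥C0, a * a * (a * a) * (a * a * a)⁻¹ = a by intro a; group] at h2

theorem fitting_eq : Cfsg.generalizedFittingSubgroup ↥C0 = Qs.subgroupOf C0 := by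
  haveI : Fact (Nat.Prime 2) := ⟨Nat.prime_two⟩
  have hle : Qs.subgroupOf C0 ≤ Cfsg.pCore 2 ↥C0 := CfsgLib.Coprime.le_pCore (IsPGroup.of_card card_Qs')
  have hclean : CfsgLib.Invol.PClean 2 ↥C0 := by
    refine CfsgLib.Invol.pClean_of_centralizer_le ?_
    intro x hx
    refine hle (Subgroup.mem_subgroupOf.2 (centralizer_Qs fun q hq => ?_))
    exact (congrArg Subtype.val (Subgroup.mem_centralizer_iff.1 hx (⟨q, Qs_le_C0 hq⟩ : ↥C0)
      (hle (Subgroup.mem_subgroupOf.2 hq)))).symm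
  have hF2 : IsPGroup 2 (Cfsg.generalizedFittingSubgroup ↥C0) :=
    CfsgLib.Invol.isPGroup_generalizedFitting_iff.2 hclean
  haveI := CfsgLib.Coprime.generalizedFitting_normal (G := ↥C0)
  exact le_antisymm ((CfsgLib.Coprime.le_pCore hF2).trans core_le)
    (hle.trans ((CfsgLib.Coprime.pCore_le_fitting 2).trans le_sup_right))

/-- The shape of the centralizer. -/
def Shape (C : Type*) [Group C] : Prop :=
  ∃ (Q : Subgroup C) (_ : Q.Normal), Cfsg.generalizedFittingSubgroup C = Q ∧ Cfsg.IsExtraspecial 2 ↥Q ∧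
    Nat.card Q = 2 ^ 13 ∧ ∃ (N M : Subgroup C) (_ : N.Normal) (_ : M.Normal), Q ≤ N ∧ N ≤ M ∧
      Nat.card N = 3 * Nat.card Q ∧
      (∃ (K : Type) (_ : Field K) (_ : Fintype K), Fintype.card K = 9 ∧
        Nonempty (↥M ⧸ N.subgroupOf M ≃* Cfsg.PSU 4 K 3)) ∧ M.index = 2

theorem shape_model : Shape ↥C0 := by
  obtain ⟨⟨iso⟩, -⟩ := derived_iso
  refine ⟨Qs.subgroupOf C0, qN, fitting_eq,
    CfsgLib.Spor.CoTwoInv.isExtraspecial_of_equiv (Subgroup.subgroupOfEquivOfLe Qs_le_C0).symm Qs_extraspecial,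
    card_Qs', Ns.subgroupOf C0, Ms.subgroupOf C0, nN, mN, Subgroup.comap_mono Qs_le_Ns,
    Subgroup.comap_mono Ns_le_Ms, by rw [card_Ns', card_Qs'], ⟨Nine, inferInstance, inferInstance, card_nine, ⟨?_⟩⟩,
    index_Ms⟩
  exact ((QuotientGroup.quotientMulEquivOfEq phi_ker.symm).trans (QuotientGroup.quotientKerEquivRange phi)).trans
    ((MulEquiv.subgroupCongr phi_range).trans iso)

end CfsgLib.Spor.Fi24Four
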