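/-
The centralizer of a product of four commuting transpositions in a group of type M(24).
-/
import Cfsg.Agent.Lib.Spor.Fi24Four.Main
import Cfsg.Agent.Lib.Spor.Fi24Seven.Transport
import Cfsg.Agent.Lib.Coprime.Component
import Cfsg.Agent.S5400

set_option autoImplicit false

namespace CfsgLib.Spor.Fi24Four

open CfsgLib.Spor.TC CfsgLib.Spor.Fi24 CfsgLib.Spor.Fi24Class

theorem sub_quot_congr {A B : Type*} [Group A] [Group B] (E : A ≃* B) (M N : Subgroup A) [(N.subgroupOf M).Normal]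
    [((N.map E.toMonoidHom).subgroupOf (M.map E.toMonoidHom)).Normal] :
    Nonempty (↥M ⧸ N.subgroupOf M ≃* ↥(M.map E.toMonoidHom) ⧸ (N.map E.toMonoidHom).subgroupOf (M.map E.toMonoidHom)) := by
  refine ⟨QuotientGroup.congr _ _ (M.equivMapOfInjective E.toMonoidHom E.injective) ?_⟩
  ext y
  rw [Subgroup.mem_subgroupOf]
  constructor
  · rintro ⟨x, hx, rfl⟩
    exact ⟨x, hx, rfl⟩
  · rintro ⟨x, hx, hxy⟩
    obtain ⟨w, rfl⟩ := (M.equivMapOfInjective E.toMonoidHom E.injective).surjective y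
    refine ⟨w, ?_, rfl⟩
    have e : x = (w : A) := E.injective hxy
    exact (e ▸ hx : (w : A) ∈ N)

theorem shape_congr {A B : Type*} [Group A] [Group B] [Finite A] (E : A ≃* B) (h : Shape A) : Shape B := by
  obtain ⟨Q, hQn, hfit, hex, hcard, N, M, hNn, hMn, hQN, hNM, hNc, ⟨K, fK, tK, hK, ⟨iso⟩⟩, hidx⟩ := h
  haveI : Finite B := Finite.of_equiv A E.toEquiv
  have hinj : Function.Injective E.toMonoidHom := E.injective
  haveI hN' : (N.map E.toMonoidHom).Normal := hNn.map _ E.surjective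
  haveI hM' : (M.map E.toMonoidHom).Normal := hMn.map _ E.surjective
  haveI : (N.subgroupOf M).Normal := hNn.subgroupOf M
  haveI : ((N.map E.toMonoidHom).subgroupOf (M.map E.toMonoidHom)).Normal := hN'.subgroupOf _
  obtain ⟨q⟩ := sub_quot_congr E M N
  refine ⟨Q.map E.toMonoidHom, hQn.map _ E.surjective, ?_, ?_, ?_, N.map E.toMonoidHom, M.map E.toMonoidHom, hN',
    hM', Subgroup.map_mono hQN, Subgroup.map_mono hNM, ?_, ⟨K, fK, tK, hK, ⟨q.symm.trans iso⟩⟩, ?_⟩
  · rw [← hfit, CfsgLib.Coprime.map_generalizedFitting_equiv]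
  · exact CfsgLib.Spor.CoTwoInv.isExtraspecial_of_equiv (Q.equivMapOfInjective _ hinj) hex
  · rw [Subgroup.card_map_of_injective hinj, hcard]
  · rw [Subgroup.card_map_of_injective hinj, Subgroup.card_map_of_injective hinj, hNc]
  · rw [← hidx]
    exact Subgroup.index_map_equiv M E

theorem z0_list : ∃ l : List X₀, l.Nodup ∧ l.length = 4 ∧ (∀ a ∈ l, a ∈ cls) ∧
    (∀ a ∈ l, ∀ b ∈ l, Commute a b) ∧ l.prod = z0 := by
  let g : Fin 4 → Fin 12 := ![0, 2, 4, 6]
  refine ⟨List.ofFn fun i => gen (g i), ?_, by simp, ?_, ?_, ?_⟩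
  · rw [List.nodup_ofFn]
    intro i j h
    have hg : Function.Injective g := by decide
    refine hg ?_
    have h2 : gpt (g i) = gpt (g j) := trp_injective (by simp only [trp_gpt]; exact h)
    exact (show ∀ a b : Fin 12, gpts.getD a 0 = gpts.getD b 0 → a = b by decide) _ _ (congrArg Fin.val h2)
  · intro a ha
    rw [List.mem_ofFn'] at ha
    obtain ⟨i, rfl⟩ := ha
    exact gen_mem_cls (g i).2
  · intro a ha b hb
    rw [List.mem_ofFn'] at ha hb
    obtain ⟨i, rfl⟩ := ha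
    obtain ⟨j, rfl⟩ := hb
    have hT : ∀ i j : Fin 4, T (g i) (gpts.getD (g j) 0) = gpts.getD (g j) 0 := by decide +kernel
    show Commute (gen (g i)) (gen (g j))
    rw [← trp_gpt, ← trp_gpt, commute_trp_iff, trp_gpt]
    exact Fin.ext ((rho_gen_val (g i).2 _).trans (hT i j))
  · simp [z0, zW, el, ev, g, List.ofFn_succ]

/-- The centralizer in the commutator subgroup of a product of four commuting transpositions. -/
theorem shape_of_type {G : Type*} [Group G] [Finite G] {D : Set G} (hD : Cfsg.IsThreeTranspositionGroup D)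
    (hprim : Cfsg.IsPrimitiveUnderConj D) (d₀ : G) (hd₀ : d₀ ∈ D)
    (h3 : Cfsg.pCore 3 ↥(Subgroup.closure {y : G | y ∈ D ∧ y ≠ d₀ ∧ Commute d₀ y}) ≤
      Subgroup.center ↥(Subgroup.closure {y : G | y ∈ D ∧ y ≠ d₀ ∧ Commute d₀ y}))
    (h2 : Cfsg.pCore 2 ↥(Subgroup.closure {y : G | y ∈ D ∧ y ≠ d₀ ∧ Commute d₀ y}) ≤
      Subgroup.center ↥(Subgroup.closure {y : G | y ∈ D ∧ y ≠ d₀ ∧ Commute d₀ y}))
    (h24 : Cfsg.IsOfTypeM24 G D) (z : G) (l : List G)
    (hl : l.Nodup ∧ l.length = 4 ∧ (∀ a ∈ l, a ∈ D) ∧ (∀ a ∈ l, ∀ b ∈ l, Commute a b) ∧ l.prod = z) :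
    Shape ↥(commutator G ⊓ Subgroup.centralizer ({z} : Set G) : Subgroup G) := by
  obtain ⟨E, hE⟩ := CfsgLib.Spor.Tri.U24.unique24
    (CfsgLib.Spor.Tri.U24.sys_of (CfsgLib.Spor.Tri.Level.hyp_of_prim hD hprim) hprim h24)
    (CfsgLib.Spor.Tri.U24.sys_of
      (CfsgLib.Spor.Tri.Level.hyp_of_prim Fi24Seven.three_group_cls CfsgLib.Spor.FischerTypes.M24.primitive)
      CfsgLib.Spor.FischerTypes.M24.primitive Fi24Seven.isOfTypeM24_cls)
  let e : X₀ ≃* G := E.symm
  have hDe : D = e '' cls := by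
    rw [← hE, Set.image_image]
    simp [e]
  obtain ⟨l0, hn, hlen, hmem, hcomm, hprod⟩ := z0_list
  obtain ⟨-, hcls, -⟩ := Cfsg.Agent.S5400.result hD hprim d₀ hd₀ h3 h2 h24
  have hconj : IsConj (e z0) z := by
    refine (hcls 4 (by norm_num) le_rfl).2 (e z0) z ⟨l0.map e, hn.map e.injective, by rw [List.length_map, hlen],
      ?_, ?_, by rw [← hprod, map_list_prod]⟩ ⟨l, hl.1, hl.2.1, hl.2.2.1, hl.2.2.2.1, hl.2.2.2.2⟩
    · intro a ha
      obtain ⟨b, hb, rfl⟩ := List.mem_map.1 ha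
      rw [hDe]
      exact ⟨b, hmem b hb, rfl⟩
    · intro a ha b hb
      obtain ⟨a', ha', rfl⟩ := List.mem_map.1 ha
      obtain ⟨b', hb', rfl⟩ := List.mem_map.1 hb
      exact (hcomm a' ha' b' hb').map e.toMonoidHom
  obtain ⟨g, hg⟩ := isConj_iff.1 hconj
  let f : X₀ ≃* G := e.trans (MulAut.conj g)
  have hf : f z0 = z := hg
  have hL : M₀.map f.toMonoidHom = commutator G := by
    rw [M₀, map_commutator_eq, MonoidHom.range_eq_top.2 f.surjective]
    rfl
  have hC : C0.map f.toMonoidHom = commutator G ⊓ Subgroup.centralizer ({z} : Set G) := by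
    rw [C0, Subgroup.map_inf _ _ _ f.injective, hL, Cz, Fi24Seven.map_centralizer_equiv, Set.image_singleton, hf]
  haveI : Finite ↥C0 := inferInstance
  exact shape_congr ((C0.equivMapOfInjective f.toMonoidHom f.injective).trans (MulEquiv.subgroupCongr hC)) shape_model

end CfsgLib.Spor.Fi24Four
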